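import Groth.Agent.ComodLib.MatrixComod
import Groth.Prelude.Def_GLin
import Mathlib.Algebra.MvPolynomial.Eval
import Mathlib.RingTheory.Localization.Away.Basic

/-! # Coactions on polynomial rings and on localisations at invariants -/

set_option autoImplicit false
set_option maxHeartbeats 400000
universe u

open TensorProduct

namespace Groth.Agent.LunaEt

variable {k : Type u} [Field k] {A : Type u} [CommRing A] [Bialgebra k A]
  {B : Type u} [CommRing B] [Algebra k B]

theorem rTensor_eq_map {C : Type u} [CommRing C] [Algebra k C] (φ : B →ₐ[k] C) (z : B ⊗[k] A) :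
    φ.toLinearMap.rTensor A z = Algebra.TensorProduct.map φ (AlgHom.id k A) z := by
  induction z using TensorProduct.induction_on with
  | zero => simp
  | add a b ha hb => simp only [map_add, ha, hb]
  | tmul a b => rfl

/-- The associativity comparison, as algebra maps. -/
noncomputable def coassocL (ρ : B →ₐ[k] B ⊗[k] A) : B →ₐ[k] B ⊗[k] (A ⊗[k] A) :=
  ((Algebra.TensorProduct.assoc k k k B A A).toAlgHom.comp
    (Algebra.TensorProduct.map ρ (AlgHom.id k A))).comp ρ

/-- The coassociativity target, as algebra maps. -/
noncomputable def coassocR (ρ : B →ₐ[k] B ⊗[k] A) : B →ₐ[k] B ⊗[k] (A ⊗[k] A) :=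
  (Algebra.TensorProduct.map (AlgHom.id k B) (Bialgebra.comulAlgHom k A)).comp ρ

/-- The counit comparison, as algebra maps. -/
noncomputable def counitL (ρ : B →ₐ[k] B ⊗[k] A) : B →ₐ[k] B ⊗[k] k :=
  (Algebra.TensorProduct.map (AlgHom.id k B) (Bialgebra.counitAlgHom k A)).comp ρ

/-- A coaction given by an algebra map. -/
theorem exists_comod_of_algHom (ρ : B →ₐ[k] B ⊗[k] A) (h₁ : coassocL ρ = coassocR ρ)
    (h₂ : ∀ b, counitL ρ b = b ⊗ₜ[k] (1 : k)) :
    ∃ (c : HopfRep.Comod k A B) (_ : @GLin.IsCoactAlg k _ A _ _ B _ _ c),
      ∀ b, @HopfRep.Comod.coact k A _ _ _ _ B _ _ c b = ρ b := by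
  let c : HopfRep.Comod k A B :=
    { coact := ρ.toLinearMap
      coassoc := by
        refine LinearMap.ext fun b => ?_
        have h := AlgHom.congr_fun h₁ b
        simp only [coassocL, coassocR, AlgHom.comp_apply] at h
        simp only [LinearMap.comp_apply, LinearEquiv.coe_coe, AlgHom.toLinearMap_apply]
        rw [rTensor_eq_map]
        refine (Eq.trans ?_ h).trans ?_
        · rfl
        · induction ρ b using TensorProduct.induction_on with
          | zero => simp
          | add p q hp hq => simp only [map_add, hp, hq]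
          | tmul p q => rfl
      counit_comp := by
        refine LinearMap.ext fun b => ?_
        have h := h₂ b
        simp only [counitL, AlgHom.comp_apply] at h
        simp only [LinearMap.comp_apply, AlgHom.toLinearMap_apply, LinearMap.flip_apply, TensorProduct.mk_apply]
        refine Eq.trans ?_ h
        induction ρ b using TensorProduct.induction_on with
        | zero => simp
        | add p q hp hq => simp only [map_add, hp, hq]
        | tmul p q => rfl }
  letI := c
  exact ⟨c, ⟨map_one ρ, map_mul ρ⟩, fun b => rfl⟩

/-- The coaction on a polynomial ring extending a comultiplicative matrix. -/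
theorem exists_comod_mvPolynomial {X : Type} [Fintype X] [DecidableEq X] (M : X → X → A)
    (hM : ComodLib.IsComodMatrix k M) :
    ∃ (c : HopfRep.Comod k A (MvPolynomial X k)) (_ : @GLin.IsCoactAlg k _ A _ _ (MvPolynomial X k) _ _ c),
      ∀ j, @HopfRep.Comod.coact k A _ _ _ _ (MvPolynomial X k) _ _ c (MvPolynomial.X j) =
        ∑ i, MvPolynomial.X i ⊗ₜ[k] M i j := by
  let ρ : MvPolynomial X k →ₐ[k] MvPolynomial X k ⊗[k] A :=
    MvPolynomial.aeval fun j => ∑ i, MvPolynomial.X i ⊗ₜ[k] M i j
  have hρ : ∀ j, ρ (MvPolynomial.X j) = ∑ i, MvPolynomial.X i ⊗ₜ[k] M i j := fun j => MvPolynomial.aeval_X _ j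
  obtain ⟨c, hc, hcρ⟩ := exists_comod_of_algHom ρ (MvPolynomial.algHom_ext fun j => by
      simp only [coassocL, coassocR, AlgHom.comp_apply, hρ, map_sum, Algebra.TensorProduct.map_tmul, hρ,
        TensorProduct.sum_tmul, AlgHom.id_apply, Bialgebra.comulAlgHom_apply, hM.comul, TensorProduct.tmul_sum]
      exact Finset.sum_comm)
    (fun b => by
      refine AlgHom.congr_fun
        (show counitL ρ = (Algebra.TensorProduct.includeLeft : MvPolynomial X k →ₐ[k] MvPolynomial X k ⊗[k] k) from
          MvPolynomial.algHom_ext fun j => ?_) b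
      simp [counitL, hρ, hM.counit, TensorProduct.tmul_ite, Algebra.TensorProduct.includeLeft_apply])
  exact ⟨c, hc, fun j => (hcρ _).trans (hρ j)⟩

variable [HopfRep.Comod k A B]

/-- The coaction on the localisation at an invariant. -/
theorem exists_comod_away (hmul : ∀ a b : B, HopfRep.Comod.coact (k := k) (A := A) (a * b) =
      HopfRep.Comod.coact (k := k) (A := A) a * HopfRep.Comod.coact (k := k) (A := A) b)
    (hone : HopfRep.Comod.coact (k := k) (A := A) (1 : B) = 1)
    (f : B) (hf : HopfRep.Comod.coact (k := k) (A := A) f = f ⊗ₜ[k] (1 : A))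
    (L : Type u) [CommRing L] [Algebra k L] [Algebra B L] [IsScalarTower k B L] [IsLocalization.Away f L] :
    ∃ (c : HopfRep.Comod k A L) (_ : @GLin.IsCoactAlg k _ A _ _ L _ _ c),
      ∀ b, @HopfRep.Comod.coact k A _ _ _ _ L _ _ c (algebraMap B L b) =
        Algebra.TensorProduct.map (IsScalarTower.toAlgHom k B L) (AlgHom.id k A)
          (HopfRep.Comod.coact (k := k) (A := A) b) := by
  let ρB : B →ₐ[k] B ⊗[k] A := AlgHom.ofLinearMap (HopfRep.Comod.coact (k := k) (A := A)) hone hmul
  let ψ : B →ₐ[k] L ⊗[k] A := (Algebra.TensorProduct.map (IsScalarTower.toAlgHom k B L) (AlgHom.id k A)).comp ρB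
  have hu : ∀ y : Submonoid.powers f, IsUnit (ψ y) := by
    rintro ⟨_, n, rfl⟩
    rw [map_pow]
    refine IsUnit.pow n ?_
    show IsUnit (Algebra.TensorProduct.map (IsScalarTower.toAlgHom k B L) (AlgHom.id k A)
      (HopfRep.Comod.coact (k := k) (A := A) f))
    rw [hf, Algebra.TensorProduct.map_tmul, AlgHom.id_apply]
    exact (IsLocalization.Away.algebraMap_isUnit f).map (Algebra.TensorProduct.includeLeft : L →ₐ[k] L ⊗[k] A)
  let ρ : L →ₐ[k] L ⊗[k] A := IsLocalization.liftAlgHom (M := Submonoid.powers f) (f := ψ) hu
  have hρ : ∀ b, ρ (algebraMap B L b) = ψ b := fun b => IsLocalization.lift_eq _ b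
  have hψ : ∀ b, ψ b = Algebra.TensorProduct.map (IsScalarTower.toAlgHom k B L) (AlgHom.id k A)
      (HopfRep.Comod.coact (k := k) (A := A) b) := fun b => rfl
  have hca : ∀ b, coassocL ρB b = coassocR ρB b := fun b => by
    have h := LinearMap.congr_fun (HopfRep.Comod.coassoc (k := k) (A := A) (V := B)) b
    simp only [LinearMap.comp_apply, LinearEquiv.coe_coe] at h
    simp only [coassocL, coassocR, AlgHom.comp_apply]
    rw [← rTensor_eq_map]
    refine (Eq.trans ?_ h).trans ?_
    · rfl
    · show _ = Algebra.TensorProduct.map (AlgHom.id k B) (Bialgebra.comulAlgHom k A)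
        (HopfRep.Comod.coact (k := k) (A := A) b)
      induction HopfRep.Comod.coact (k := k) (A := A) b using TensorProduct.induction_on with
      | zero => simp
      | add p q hp hq => simp only [map_add, hp, hq]
      | tmul p q => rfl
  obtain ⟨c, hc, hcρ⟩ := exists_comod_of_algHom ρ
    (IsLocalization.algHom_ext (Submonoid.powers f) (AlgHom.ext fun b => by
      show coassocL ρ (algebraMap B L b) = coassocR ρ (algebraMap B L b)
      have h := congrArg (Algebra.TensorProduct.map (IsScalarTower.toAlgHom k B L) (AlgHom.id k (A ⊗[k] A))) (hca b)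
      simp only [coassocL, coassocR, AlgHom.comp_apply, hρ, hψ] at h ⊢
      refine (Eq.trans ?_ h).trans ?_
      · show _ = _
        change (Algebra.TensorProduct.assoc k k k L A A) (Algebra.TensorProduct.map ρ (AlgHom.id k A)
          (Algebra.TensorProduct.map (IsScalarTower.toAlgHom k B L) (AlgHom.id k A) (ρB b))) = _
        induction ρB b using TensorProduct.induction_on with
        | zero => simp
        | add p q hp hq => simp only [map_add, hp, hq]
        | tmul p q =>
          simp only [Algebra.TensorProduct.map_tmul, IsScalarTower.toAlgHom_apply, AlgHom.id_apply, hρ, hψ]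
          change _ = Algebra.TensorProduct.map (IsScalarTower.toAlgHom k B L) (AlgHom.id k (A ⊗[k] A))
            ((Algebra.TensorProduct.assoc k k k B A A)
              (HopfRep.Comod.coact (k := k) (A := A) p ⊗ₜ[k] q))
          induction HopfRep.Comod.coact (k := k) (A := A) p using TensorProduct.induction_on with
          | zero => simp
          | add x y hx hy => simp only [map_add, TensorProduct.add_tmul, hx, hy]
          | tmul x y => simp
      · rw [show ρB b = HopfRep.Comod.coact (k := k) (A := A) b from rfl]
        induction HopfRep.Comod.coact (k := k) (A := A) b using TensorProduct.induction_on with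
        | zero => simp
        | add p q hp hq => simp only [map_add, hp, hq]
        | tmul p q => simp))
    (fun l => AlgHom.congr_fun
      (show counitL ρ = (Algebra.TensorProduct.includeLeft : L →ₐ[k] L ⊗[k] k) from
        IsLocalization.algHom_ext (Submonoid.powers f) (AlgHom.ext fun b => by
          show counitL ρ (algebraMap B L b) = algebraMap B L b ⊗ₜ[k] (1 : k)
          have h := congrArg (Algebra.TensorProduct.map (IsScalarTower.toAlgHom k B L) (AlgHom.id k k))
            (LinearMap.congr_fun (HopfRep.Comod.counit_comp (k := k) (A := A) (V := B)) b)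
          simp only [LinearMap.comp_apply, LinearMap.flip_apply, TensorProduct.mk_apply,
            Algebra.TensorProduct.map_tmul, IsScalarTower.toAlgHom_apply, AlgHom.id_apply] at h
          simp only [counitL, AlgHom.comp_apply, hρ, hψ]
          rw [← h]
          induction HopfRep.Comod.coact (k := k) (A := A) b using TensorProduct.induction_on with
          | zero => simp
          | add p q hp hq => simp only [map_add, hp, hq]
          | tmul p q => simp)) l)
  exact ⟨c, hc, fun b => (hcρ _).trans (hρ b)⟩

end Groth.Agent.LunaEt
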