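import Groth.Agent.LunaEt.Fibre
import Groth.Agent.LunaEt.PolyComod
import Groth.Agent.EquivZMT.Points
import Groth.Agent.EquivZMT.SubAlg
import Groth.Prelude.Def_ComodSub
import Mathlib.RingTheory.ZariskisMainTheorem
import Mathlib.RingTheory.Polynomial.UniqueFactorization
import Mathlib.RingTheory.IntegralClosure.IntegrallyClosed
import Mathlib.RingTheory.UniqueFactorizationDomain.GCDMonoid
import Mathlib.RingTheory.RingHom.QuasiFinite

/-! # An equivariant integral normal thickening of a quasi-finite morphism -/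

set_option autoImplicit false
set_option maxHeartbeats 1000000
universe u

open TensorProduct

namespace Groth.Agent.LunaEt

open ComodLib GLin

variable {k : Type u} [Field k] {A : Type u} [CommRing A] [HopfAlgebra k A]

/-- A finite set lies in the span of an independent family which transforms by a comultiplicative matrix. -/
theorem exists_family {V : Type u} [AddCommGroup V] [Module k V] [HopfRep.Comod k A V] {s : Set V} (hs : s.Finite) :
    ∃ (n : ℕ) (w : Fin n → V) (M : Fin n → Fin n → A), IsComodMatrix k M ∧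
      (∀ j, HopfRep.Comod.coact (k := k) (A := A) (w j) = ∑ i, w i ⊗ₜ[k] M i j) ∧
      s ⊆ Submodule.span k (Set.range w) := by
  classical
  obtain ⟨U, hUf, hsU, hU⟩ := exists_finite_subcomod_le (k := k) (C := A) hs
  letI cU : HopfRep.Comod k A U := ComodSub.Comod.restr inferInstance U hU
  let b := Module.finBasis k U
  refine ⟨_, fun j => (b j : V), matrixOf (A := A) b, isComodMatrix_matrixOf b, fun j => ?_, fun v hv => ?_⟩
  · rw [← ComodSub.restr_coact_coe inferInstance U hU (b j)]
    show U.subtype.rTensor A (HopfRep.Comod.coact (k := k) (A := A) (b j)) = _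
    rw [coact_matrixOf b j, map_sum]
    rfl
  · have h := congrArg (Submodule.subtype U) (b.sum_repr ⟨v, hsU hv⟩)
    rw [map_sum] at h
    rw [SetLike.mem_coe, show v = _ from h.symm]
    exact Submodule.sum_mem _ fun i _ => by
      rw [map_smul]; exact Submodule.smul_mem _ _ (Submodule.subset_span ⟨i, rfl⟩)

variable [IsAlgClosed k] [CharZero k] [Algebra.FiniteType k A]

/-- Points act on a stable generated subalgebra. -/
theorem act_mem_adjoin {P : Type u} [CommRing P] [Algebra k P] [HopfRep.Comod k A P] [GLin.IsCoactAlg k A P]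
    (T : Submodule k P) (hT : HopfRep.IsSubcomod (k := k) (A := A) T) (g : A →ₐ[k] k) {b : P}
    (hb : b ∈ Algebra.adjoin k (T : Set P)) : HopfRep.Comod.act k A P g b ∈ Algebra.adjoin k (T : Set P) := by
  show ComodLib.actF g.toLinearMap b ∈ _
  rw [← EquivZMT.evalHom_apply]
  induction hb using Algebra.adjoin_induction with
  | mem x hx =>
    exact Algebra.subset_adjoin (EquivZMT.evalHom_apply g x ▸ subcomod_actF_mem hT _ hx)
  | algebraMap r => rw [AlgHom.commutes]; exact Subalgebra.algebraMap_mem _ r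
  | add x y _ _ hx hy => rw [map_add]; exact add_mem hx hy
  | mul x y _ _ hx hy => rw [map_mul]; exact mul_mem hx hy

theorem comap_act_comap {P : Type u} [CommRing P] [Algebra k P] [HopfRep.Comod k A P] [GLin.IsCoactAlg k A P]
    (g : A →ₐ[k] k) (Q : Ideal P) :
    (Q.comap (actHom g)).comap (actHom (WithConv.toConv g)⁻¹.ofConv) = Q := by
  refine Ideal.ext fun r => ?_
  simp only [Ideal.mem_comap, actHom_apply, act_inv_act]

theorem exists_thickening (hG : HopfRep.IsLinearlyReductive k A)
    {S : Type u} [CommRing S] [Algebra k S] [Algebra.FiniteType k S] [HopfRep.Comod k A S] [GLin.IsCoactAlg k A S]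
    {R : Type u} [CommRing R] [Nontrivial R] [Algebra k R] [Algebra.FiniteType k R] [HopfRep.Comod k A R]
    [GLin.IsCoactAlg k A R] [Algebra S R] [IsScalarTower k S R] [Algebra.QuasiFinite S R]
    (hinj : Function.Injective (algebraMap S R)) (h : Equivariant k A S R) :
    ∃ (R' : Type u) (_ : CommRing R') (_ : IsDomain R') (_ : IsIntegrallyClosed R') (_ : Algebra k R')
      (_ : HopfRep.Comod k A R') (_ : GLin.IsCoactAlg k A R')
      (S' : Type u) (_ : CommRing S') (_ : IsDomain S') (_ : Algebra k S')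
      (_ : HopfRep.Comod k A S') (_ : GLin.IsCoactAlg k A S'),
      Algebra.FiniteType k R' ∧ Algebra.FiniteType k S' ∧
      ∃ (pR : R' →ₐ[k] R) (pS : S' →ₐ[k] S) (φ' : S' →ₐ[k] R'),
        Function.Surjective pR ∧ Function.Surjective pS ∧ Function.Injective φ' ∧ φ'.toRingHom.QuasiFinite ∧
        (∀ s : R', HopfRep.Comod.coact (k := k) (A := A) (pR s) =
        Algebra.TensorProduct.map pR (AlgHom.id k A) (HopfRep.Comod.coact (k := k) (A := A) s)) ∧
        (∀ s : S', HopfRep.Comod.coact (k := k) (A := A) (pS s) =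
        Algebra.TensorProduct.map pS (AlgHom.id k A) (HopfRep.Comod.coact (k := k) (A := A) s)) ∧
        (∀ s : S', HopfRep.Comod.coact (k := k) (A := A) (φ' s) =
        Algebra.TensorProduct.map φ' (AlgHom.id k A) (HopfRep.Comod.coact (k := k) (A := A) s)) ∧
        pR.comp φ' = (IsScalarTower.toAlgHom k S R).comp pS := by
  classical
  haveI : _root_.IsReduced A := ComodLib.isReduced_of_charZero' (k := k)
  obtain ⟨α, hα, h1⟩ := exists_integral_of_isLinearlyReductive hG
  obtain ⟨Gs, hGs⟩ := (Algebra.FiniteType.out : (⊤ : Subalgebra k S).FG)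
  obtain ⟨Gr, hGr⟩ := (Algebra.FiniteType.out : (⊤ : Subalgebra k R).FG)
  obtain ⟨n, w, M, hM, hw, hspan⟩ := exists_family (k := k) (A := A) (Gr ∪ Gs.image (algebraMap S R)).finite_toSet
  obtain ⟨cP, hcP, hX⟩ := exists_comod_mvPolynomial M hM
  letI := cP
  haveI := hcP
  let P := MvPolynomial (Fin n) k
  let π : P →ₐ[k] R := MvPolynomial.aeval w
  have hπX : ∀ i, π (MvPolynomial.X i) = w i := fun i => MvPolynomial.aeval_X _ i
  have hπ : ∀ b : P, HopfRep.Comod.coact (k := k) (A := A) (π b) =
      Algebra.TensorProduct.map π (AlgHom.id k A) (HopfRep.Comod.coact (k := k) (A := A) b) := fun b => by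
    have e : (GLin.coactAlgHom k A R).comp π =
        (Algebra.TensorProduct.map π (AlgHom.id k A)).comp (GLin.coactAlgHom k A P) := MvPolynomial.algHom_ext fun j => by
      simp only [AlgHom.comp_apply, GLin.coactAlgHom_apply, hπX, hw]
      show _ = Algebra.TensorProduct.map π (AlgHom.id k A) (HopfRep.Comod.coact (k := k) (A := A) (MvPolynomial.X j))
      rw [hX, map_sum]
      exact Finset.sum_congr rfl fun i _ => by rw [Algebra.TensorProduct.map_tmul, hπX]; rfl
    exact AlgHom.congr_fun e b
  have hπc : Hoch.IsComodHom A π.toLinearMap := LinearMap.ext fun b => (hπ b).trans (rTensor_eq_map π _).symm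
  let ι : S →ₐ[k] R := IsScalarTower.toAlgHom k S R
  -- generators downstairs
  let X₁ : Submodule k P := Submodule.span k (Set.range (MvPolynomial.X (R := k)))
  have hX₁ : HopfRep.IsSubcomod (k := k) (A := A) X₁ := by
    refine isSubcomod_iff_actF.mpr fun φ v hv => ?_
    induction hv using Submodule.span_induction with
    | mem x hx =>
      obtain ⟨j, rfl⟩ := hx
      rw [actF_apply, hX, map_sum]
      refine Submodule.sum_mem _ fun i _ => ?_
      rw [slice_tmul]
      exact Submodule.smul_mem _ _ (Submodule.subset_span ⟨i, rfl⟩)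
    | zero => rw [map_zero]; exact zero_mem _
    | add a b _ _ ha hb => rw [map_add]; exact add_mem ha hb
    | smul c a _ ha => rw [map_smul]; exact Submodule.smul_mem _ c ha
  haveI : Module.Finite k X₁ := Module.Finite.span_of_finite k (Set.finite_range _)
  let T₀ : Submodule k P := X₁ ⊓ (LinearMap.range ι.toLinearMap).comap π.toLinearMap
  have hT₀ : HopfRep.IsSubcomod (k := k) (A := A) T₀ :=
    isSubcomod_inf hX₁ (isSubcomod_comap hπc (isSubcomod_range h.isComodHom))
  let I : Ideal P := RingHom.ker π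
  obtain ⟨GI, hGI⟩ : I.FG := IsNoetherian.noetherian I
  obtain ⟨M₁, hM₁f, hGIM, hM₁⟩ := exists_finite_subcomod_le (k := k) (C := A) GI.finite_toSet
  let M₀ : Submodule k P := M₁ ⊓ LinearMap.ker π.toLinearMap
  have hM₀ : HopfRep.IsSubcomod (k := k) (A := A) M₀ := isSubcomod_inf hM₁ (isSubcomod_ker hπc)
  have hGI₀ : ∀ x ∈ GI, x ∈ M₀ := fun x hx => ⟨hGIM hx, (hGI ▸ Ideal.subset_span hx : x ∈ I)⟩
  let T : Submodule k P := T₀ ⊔ M₀
  have hT : HopfRep.IsSubcomod (k := k) (A := A) T := isSubcomod_sup hT₀ hM₀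
  haveI : Module.Finite k T₀ := Submodule.finiteDimensional_inf_left _ _
  haveI : Module.Finite k M₀ := Submodule.finiteDimensional_inf_left _ _
  let S₂ : Subalgebra k P := Algebra.adjoin k (T : Set P)
  have hS₂st : ∀ (g : A →ₐ[k] k), ∀ b ∈ S₂, HopfRep.Comod.act k A P g b ∈ S₂ := fun g b hb => act_mem_adjoin T hT g hb
  have hS₂π : ∀ b ∈ S₂, π b ∈ ι.range := by
    intro b hb
    induction hb using Algebra.adjoin_induction with
    | mem x hx =>
      obtain ⟨x₁, hx₁, x₂, hx₂, rfl⟩ := Submodule.mem_sup.mp hx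
      rw [map_add, show π x₂ = 0 from hx₂.2, add_zero]
      obtain ⟨y, hy⟩ := hx₁.2
      exact ⟨y, hy⟩
    | algebraMap r => rw [AlgHom.commutes]; exact ι.range.algebraMap_mem r
    | add x y _ _ hx hy => rw [map_add]; exact add_mem hx hy
    | mul x y _ _ hx hy => rw [map_mul]; exact mul_mem hx hy
  have hS₂surj : ∀ s : S, ∃ b ∈ S₂, π b = ι s := by
    intro s
    have hs : s ∈ Algebra.adjoin k (Gs : Set S) := hGs ▸ Algebra.mem_top
    induction hs using Algebra.adjoin_induction with
    | mem x hx =>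
      have hxw : ι x ∈ Submodule.span k (Set.range w) := hspan
        (Finset.mem_union_right _ (Finset.mem_image_of_mem _ hx))
      have hxw' : ι x ∈ Submodule.map π.toLinearMap X₁ := by
        rw [Submodule.map_span, ← Set.range_comp]
        exact (funext hπX : (π.toLinearMap ∘ MvPolynomial.X) = w).symm ▸ hxw
      obtain ⟨b, hb, hbx⟩ := hxw'
      exact ⟨b, Algebra.subset_adjoin (Submodule.mem_sup_left ⟨hb, x, hbx.symm⟩), hbx⟩
    | algebraMap r => exact ⟨algebraMap k P r, S₂.algebraMap_mem r, by rw [AlgHom.commutes, AlgHom.commutes]⟩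
    | add x y _ _ hx hy =>
      obtain ⟨b, hb, hbx⟩ := hx; obtain ⟨b', hb', hby⟩ := hy
      exact ⟨b + b', add_mem hb hb', by rw [map_add, map_add, hbx, hby]⟩
    | mul x y _ _ hx hy =>
      obtain ⟨b, hb, hbx⟩ := hx; obtain ⟨b', hb', hby⟩ := hy
      exact ⟨b * b', mul_mem hb hb', by rw [map_mul, map_mul, hbx, hby]⟩
  have hπsurj : Function.Surjective π := by
    rw [← AlgHom.range_eq_top, ← top_le_iff, ← hGr, Algebra.adjoin_le_iff]
    intro x hx
    refine Submodule.span_le (p := Subalgebra.toSubmodule π.range).mpr ?_ (hspan (Finset.mem_union_left _ hx))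
    rintro _ ⟨i, rfl⟩
    exact ⟨MvPolynomial.X i, hπX i⟩
  -- primes with the same contraction to `S₂`, one of them containing the kernel
  haveI : Algebra.FiniteType S₂ P := Algebra.FiniteType.of_restrictScalars_finiteType k S₂ P
  have hIQ : ∀ Q Q' : Ideal P, I ≤ Q → Q'.comap (algebraMap S₂ P) = Q.comap (algebraMap S₂ P) → I ≤ Q' := by
    intro Q Q' hQ he
    rw [← hGI, Ideal.span_le]
    intro x hx
    have hxS : x ∈ S₂ := Algebra.subset_adjoin (Submodule.mem_sup_right (hGI₀ x hx))
    have : (⟨x, hxS⟩ : S₂) ∈ Q'.comap (algebraMap S₂ P) := by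
      rw [he]
      exact hQ (hGI ▸ Ideal.subset_span hx)
    exact this
  have hcon : ∀ Q Q' : Ideal P, I ≤ Q → I ≤ Q' → Q'.comap (algebraMap S₂ P) = Q.comap (algebraMap S₂ P) →
      (Q'.map π).comap (algebraMap S R) = (Q.map π).comap (algebraMap S R) := by
    have key : ∀ Q : Ideal P, I ≤ Q → ∀ s, ∀ b : P, π b = ι s → (ι s ∈ Q.map π ↔ b ∈ Q) := by
      intro Q hQ s b hb
      rw [← hb, ← Ideal.mem_comap, Ideal.comap_map_of_surjective π hπsurj, sup_eq_left.mpr]
      exact hQ
    intro Q Q' hQ hQ' he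
    refine Ideal.ext fun s => ?_
    obtain ⟨b, hb, hbs⟩ := hS₂surj s
    refine ((key Q' hQ' s b hbs).trans ?_).trans (key Q hQ s b hbs).symm
    exact SetLike.ext_iff.mp he ⟨b, hb⟩
  have hqf : ∀ Q : Ideal P, [Q.IsPrime] → I ≤ Q → Algebra.QuasiFiniteAt S₂ Q := by
    intro Q _ hQ
    let q : PrimeSpectrum P := ⟨Q, inferInstance⟩
    refine Algebra.QuasiFiniteAt.of_isOpen_singleton_fiber q ?_
    let F : Set (PrimeSpectrum P) := PrimeSpectrum.comap (algebraMap S₂ P) ⁻¹' {q.comap (algebraMap S₂ P)}
    have hF : ∀ a : PrimeSpectrum P, a ∈ F → I ≤ a.asIdeal ∧ (a.asIdeal.map π).IsPrime ∧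
        (a.asIdeal.map π).comap (algebraMap S R) = (Q.map π).comap (algebraMap S R) := fun a ha => by
      have he : a.asIdeal.comap (algebraMap S₂ P) = Q.comap (algebraMap S₂ P) := congrArg PrimeSpectrum.asIdeal ha
      have hIa := hIQ Q a.asIdeal hQ he
      exact ⟨hIa, Ideal.map_isPrime_of_surjective hπsurj hIa, hcon Q a.asIdeal hQ hIa he⟩
    have hinjF : ∀ a b : PrimeSpectrum P, a ∈ F → b ∈ F → a.asIdeal.map π = b.asIdeal.map π → a = b := by
      intro a b ha hb he
      refine PrimeSpectrum.ext ?_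
      have := congrArg (Ideal.comap π) he
      rwa [Ideal.comap_map_of_surjective π hπsurj, Ideal.comap_map_of_surjective π hπsurj,
        sup_eq_left.mpr (show Ideal.comap π ⊥ ≤ a.asIdeal from (hF a ha).1),
        sup_eq_left.mpr (show Ideal.comap π ⊥ ≤ b.asIdeal from (hF b hb).1)] at this
    have hFfin : F.Finite := by
      refine Set.Finite.of_finite_image (f := fun a => a.asIdeal.map π) ?_ fun a ha b hb => hinjF a b ha hb
      refine (Algebra.QuasiFinite.finite_primesOver (S := R) ((Q.map π).comap (algebraMap S R))).subset ?_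
      rintro _ ⟨a, ha, rfl⟩
      exact ⟨(hF a ha).2.1, ⟨(hF a ha).2.2.symm⟩⟩
    have hanti : ∀ a ∈ F, a ≠ q → ∃ t ∈ a.asIdeal, t ∉ Q := by
      intro a ha hne
      refine SetLike.not_le_iff_exists.mp fun hle : a.asIdeal ≤ Q => hne ?_
      refine hinjF a q ha rfl ?_
      haveI := (hF a ha).2.1
      haveI : (Q.map π).IsPrime := Ideal.map_isPrime_of_surjective hπsurj hQ
      exact Algebra.QuasiFinite.eq_of_le_of_under_eq (R := S) _ _ (Ideal.map_mono hle) (hF a ha).2.2
    choose! t ht htQ using hanti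
    refine ⟨PrimeSpectrum.basicOpen (∏ a ∈ hFfin.toFinset.erase q, t a), (PrimeSpectrum.basicOpen _).isOpen, ?_⟩
    ext ⟨a, ha⟩
    refine ⟨fun hmem => ?_, fun hmem => ?_⟩
    · by_contra hne
      have hne' : a ≠ q := fun he => hne (Subtype.ext he)
      refine hmem (Ideal.mem_of_dvd _ (Finset.dvd_prod_of_mem t ?_) (ht a ha hne'))
      exact Finset.mem_erase.mpr ⟨hne', hFfin.mem_toFinset.mpr ha⟩
    · obtain rfl : a = q := congrArg Subtype.val hmem
      intro hprod
      obtain ⟨b, hb, hbt⟩ := (inferInstance : Q.IsPrime).prod_mem_iff.mp hprod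
      exact htQ b (hFfin.mem_toFinset.mp (Finset.mem_of_mem_erase hb)) (Finset.ne_of_mem_erase hb) hbt
  -- the locus where fibres are discrete
  let J : Ideal P :=
    { carrier := {r | ∀ Q Q' : Ideal P, Q.IsPrime → Q'.IsPrime → r ∉ Q → Q' ≤ Q →
        Q'.comap (algebraMap S₂ P) = Q.comap (algebraMap S₂ P) → Q' = Q}
      zero_mem' := fun Q Q' _ _ h0 => absurd Q.zero_mem h0
      add_mem' := fun {a b} ha hb Q Q' hQ hQ' hab hle he => by
        by_cases haQ : a ∈ Q
        · exact hb Q Q' hQ hQ' (fun hbQ => hab (Q.add_mem haQ hbQ)) hle he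
        · exact ha Q Q' hQ hQ' haQ hle he
      smul_mem' := fun c a ha Q Q' hQ hQ' hca hle he =>
        ha Q Q' hQ hQ' (fun h' => hca (Q.mul_mem_left c h')) hle he }
  have hJst : ∀ (g : A →ₐ[k] k), ∀ a ∈ J, HopfRep.Comod.act k A P g a ∈ J := by
    intro g a ha Q Q' hQ hQ' hga hle he
    haveI := hQ; haveI := hQ'
    have := ha (Q.comap (actHom g)) (Q'.comap (actHom g)) inferInstance inferInstance hga (Ideal.comap_mono hle)
      (Ideal.ext fun b => SetLike.ext_iff.mp he ⟨_, hS₂st g b.1 b.2⟩)
    rw [← comap_act_comap g Q', ← comap_act_comap g Q, this]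
  have hJI : J ⊔ I = ⊤ := by
    by_contra hne
    obtain ⟨Q, hQ, hle⟩ := Ideal.exists_le_maximal _ hne
    haveI := hqf Q (le_sup_right.trans hle)
    obtain ⟨S', hS', r, hr, hbij⟩ :=
      Algebra.QuasiFiniteAt.exists_fg_and_exists_notMem_and_awayMap_bijective (R := S₂) Q
    haveI : Module.Finite S₂ S' := Module.Finite.iff_fg.2 hS'
    refine hr (hle (Ideal.mem_sup_left (?_ : (r : P) ∈ J)))
    intro Q₁ Q₂ hQ₁ hQ₂ hr₁ hle' he
    haveI : (Q₁.comap S'.val).IsPrime := Ideal.comap_isPrime _ _
    haveI : (Q₂.comap S'.val).IsPrime := Ideal.comap_isPrime _ _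
    have h' : Q₂.comap S'.val = Q₁.comap S'.val := by
      rcases (Ideal.comap_mono hle' : Q₂.comap S'.val ≤ Q₁.comap S'.val).lt_or_eq with hlt | heq
      · haveI : Algebra.IsIntegral S₂ S' := Algebra.IsIntegral.of_finite S₂ S'
        exact absurd (show (Q₂.comap S'.val).comap (algebraMap S₂ S') = (Q₁.comap S'.val).comap (algebraMap S₂ S') from he)
          (Ideal.IsIntegral.comap_lt_comap (R := S₂) (A := S') hlt).ne
      · exact heq
    refine le_antisymm hle' fun b hb => ?_
    obtain ⟨z, hz⟩ := hbij.2 (algebraMap P (Localization.Away (S'.val.toRingHom r)) b)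
    obtain ⟨m, a, hma⟩ := IsLocalization.Away.surj r z
    have hmap : ∀ c : S', Localization.awayMap S'.val.toRingHom r (algebraMap S' (Localization.Away r) c) =
        algebraMap P (Localization.Away (S'.val.toRingHom r)) (c : P) := fun c => IsLocalization.map_eq _ c
    have h2 := congrArg (Localization.awayMap S'.val.toRingHom r) hma
    rw [map_mul, map_pow, hz, hmap, hmap, ← map_pow, ← map_mul] at h2
    obtain ⟨⟨_, j, rfl⟩, hj⟩ := (IsLocalization.eq_iff_exists (Submonoid.powers (S'.val.toRingHom r)) _).mp h2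
    have hj' : (r : P) ^ j * (b * (r : P) ^ m) = (r : P) ^ j * (a : P) := hj
    have hrQ₂ : (r : P) ∉ Q₂ := fun h => hr₁ (hle' h)
    have ha₁ : (a : P) ∈ Q₁ := by
      have : (r : P) ^ j * (a : P) ∈ Q₁ := by
        rw [← hj']; exact Ideal.mul_mem_left _ _ (Ideal.mul_mem_right _ _ hb)
      exact (hQ₁.mem_or_mem this).resolve_left fun h => hr₁ (hQ₁.mem_of_pow_mem _ h)
    have ha₂ : (a : P) ∈ Q₂ := (SetLike.ext_iff.mp h' a).mpr ha₁
    have : (r : P) ^ j * (b * (r : P) ^ m) ∈ Q₂ := by rw [hj']; exact Ideal.mul_mem_left _ _ ha₂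
    exact (hQ₂.mem_or_mem ((hQ₂.mem_or_mem this).resolve_left fun h => hrQ₂ (hQ₂.mem_of_pow_mem _ h))).resolve_right
      fun h => hrQ₂ (hQ₂.mem_of_pow_mem _ h)
  obtain ⟨j, hjJ, i, hi, hji⟩ := Submodule.mem_sup.mp ((Ideal.eq_top_iff_one _).mp hJI)
  let f : P := rey α j
  have hfJ : f ∈ J := rey_mem_of_isSubcomod (α := α)
    (EquivZMT.isSubcomod_of_points fun g v hv => hJst g v hv) (show j ∈ J.restrictScalars k from hjJ)
  have hfinv : f ∈ invariants k A P := rey_mem_fixedPts hα j
  have hπf : π f = 1 := by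
    have h2 := congrArg (fun z => π (rey α z)) hji
    simp only [map_add] at h2
    rw [show π (rey α i) = rey α (π i) from map_rey hπc i, show π i = 0 from hi, map_zero, add_zero,
      rey_of_fixed h1 (show (1 : P) ∈ HopfRep.fixedPts k A P from (invariants k A P).one_mem), map_one] at h2
    exact h2
  have hf0 : f ≠ 0 := fun h0 => one_ne_zero (hπf.symm.trans (by rw [h0, map_zero]))
  -- the thickenings
  let R' := Localization.Away f
  haveI : IsDomain R' := IsLocalization.isDomain_localization (powers_le_nonZeroDivisors_of_noZeroDivisors hf0)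
  haveI : IsIntegrallyClosed R' :=
    isIntegrallyClosed_of_isLocalization (R := P) _ _ (powers_le_nonZeroDivisors_of_noZeroDivisors hf0)
  obtain ⟨cR', hcR', hR'⟩ := exists_comod_away (k := k) (A := A) GLin.IsCoactAlg.coact_mul
    (by rw [GLin.IsCoactAlg.coact_one, Algebra.TensorProduct.one_def]) f hfinv R'
  letI := cR'
  haveI := hcR'
  let pR : R' →ₐ[k] R := IsLocalization.liftAlgHom (M := Submonoid.powers f) (f := π) fun y => by
    obtain ⟨_, m, rfl⟩ := y
    rw [map_pow, hπf, one_pow]
    exact isUnit_one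
  have hpR : ∀ b : P, pR (algebraMap P R' b) = π b := fun b => IsLocalization.lift_eq _ b
  let l : P →ₐ[k] R' := IsScalarTower.toAlgHom k P R'
  have hlc : Hoch.IsComodHom A l.toLinearMap := LinearMap.ext fun b => (hR' b).trans (rTensor_eq_map l _).symm
  let S' : Subalgebra k R' := S₂.map l
  have hS'st : HopfRep.IsSubcomod (k := k) (A := A) (Subalgebra.toSubmodule S') :=
    isSubcomod_map (U := Subalgebra.toSubmodule S₂) hlc (EquivZMT.isSubcomod_of_points fun g v hv => hS₂st g v hv)
  obtain ⟨cS', hcS', hS'⟩ := EquivZMT.exists_comod_subalgebra (A := A) S' hS'st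
  letI := cS'
  haveI := hcS'
  haveI : Algebra.FiniteType k S' := by
    obtain ⟨GT, hGT⟩ : T.FG := Module.Finite.iff_fg.1 inferInstance
    have : S₂ = Algebra.adjoin k (GT : Set P) := by
      refine le_antisymm (Algebra.adjoin_le ?_) (Algebra.adjoin_mono (hGT ▸ Submodule.subset_span))
      rw [← hGT]
      exact (Submodule.span_le (p := Subalgebra.toSubmodule (Algebra.adjoin k (GT : Set P)))).mpr Algebra.subset_adjoin
    exact (Subalgebra.fg_iff_finiteType _).mp (Subalgebra.FG.map l (this ▸ Subalgebra.fg_adjoin_finset GT))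
  haveI : Algebra.FiniteType k R' := inferInstance
  have hmemι : ∀ s : S', pR (s : R') ∈ ι.range := fun s => by
    obtain ⟨b, hb, hbs⟩ := s.2
    rw [← hbs]
    show pR (algebraMap P R' b) ∈ _
    rw [hpR]
    exact hS₂π b hb
  let pS : S' →ₐ[k] S := (AlgEquiv.ofInjective ι hinj).symm.toAlgHom.comp ((pR.comp S'.val).codRestrict ι.range hmemι)
  have hpS : ∀ s : S', ι (pS s) = pR (s : R') := fun s =>
    congrArg Subtype.val ((AlgEquiv.ofInjective ι hinj).apply_symm_apply ⟨pR (s : R'), hmemι s⟩)
  have hpReq : ∀ s : R', HopfRep.Comod.coact (k := k) (A := A) (pR s) =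
      Algebra.TensorProduct.map pR (AlgHom.id k A) (HopfRep.Comod.coact (k := k) (A := A) s) := by
    intro s
    have e : (GLin.coactAlgHom k A R).comp pR =
        (Algebra.TensorProduct.map pR (AlgHom.id k A)).comp (GLin.coactAlgHom k A R') :=
      IsLocalization.algHom_ext (Submonoid.powers f) (AlgHom.ext fun b => by
        show HopfRep.Comod.coact (k := k) (A := A) (pR (algebraMap P R' b)) =
          Algebra.TensorProduct.map pR (AlgHom.id k A) (HopfRep.Comod.coact (k := k) (A := A) (algebraMap P R' b))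
        rw [hpR, hπ, hR', ← AlgHom.comp_apply, ← Algebra.TensorProduct.map_comp]
        congr 1
        refine Algebra.TensorProduct.ext (AlgHom.ext fun z => ?_) (AlgHom.ext fun z => ?_)
        · simp [hpR]
        · simp)
    exact AlgHom.congr_fun e s
  refine ⟨R', inferInstance, inferInstance, inferInstance, inferInstance, inferInstance, inferInstance,
    S', inferInstance, inferInstance, inferInstance, inferInstance, inferInstance, inferInstance, inferInstance,
    pR, pS, S'.val, ?_, ?_, Subtype.val_injective, ?_, hpReq, ?_, hS', ?_⟩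
  · intro r
    obtain ⟨b, rfl⟩ := hπsurj r
    exact ⟨algebraMap P R' b, hpR b⟩
  · intro s
    obtain ⟨b, hb, hbs⟩ := hS₂surj s
    refine ⟨⟨l b, b, hb, rfl⟩, hinj ?_⟩
    exact (hpS _).trans ((hpR b).trans hbs)
  · show @Algebra.QuasiFinite S' R' _ _ S'.val.toRingHom.toAlgebra
    letI : Algebra S' R' := S'.val.toRingHom.toAlgebra
    haveI : IsScalarTower k S' R' := IsScalarTower.of_algebraMap_eq' rfl
    haveI : Algebra.FiniteType S' R' := Algebra.FiniteType.of_restrictScalars_finiteType k S' R'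
    rw [Algebra.QuasiFinite.iff_finite_primesOver]
    intro p' hp'
    let u : S₂ →+* S' := (l.comp S₂.val).toRingHom.codRestrict S' fun b => ⟨b.1, b.2, rfl⟩
    let p := p'.comap u
    haveI : IsNoetherianRing P := inferInstance
    refine Set.Finite.of_finite_image (f := fun Q : Ideal R' => Q.comap (algebraMap P R')) ?_ ?_
    · refine (Ideal.finite_minimalPrimes_of_isNoetherianRing P (p.map (algebraMap S₂ P))).subset ?_
      rintro _ ⟨Q, ⟨hQ, ⟨hQo⟩⟩, rfl⟩
      haveI := hQ
      have hfQ : f ∉ Q.comap (algebraMap P R') := fun h' =>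
        hQ.ne_top (Ideal.eq_top_of_isUnit_mem _ h' (IsLocalization.Away.algebraMap_isUnit f))
      have hco : (Q.comap (algebraMap P R')).comap (algebraMap S₂ P) = p := by
        rw [show p = p'.comap u from rfl, hQo]
        rfl
      refine ⟨⟨inferInstance, Ideal.map_le_iff_le_comap.mpr hco.ge⟩, fun Q' ⟨hQ', hpQ'⟩ hle => ?_⟩
      have he : Q'.comap (algebraMap S₂ P) = (Q.comap (algebraMap P R')).comap (algebraMap S₂ P) :=
        le_antisymm (Ideal.comap_mono hle) (hco.le.trans (Ideal.map_le_iff_le_comap.mp hpQ'))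
      exact ((hfJ _ Q' inferInstance hQ' hfQ hle he).symm ▸ le_rfl : Q.comap (algebraMap P R') ≤ Q')
    · intro Q₁ _ Q₂ _ he
      have h₁ := IsLocalization.map_comap (Submonoid.powers f) R' Q₁
      have h₂ := IsLocalization.map_comap (Submonoid.powers f) R' Q₂
      rw [← h₁, ← h₂]
      exact congrArg (Ideal.map (algebraMap P R')) he
  · intro s
    apply Module.Flat.rTensor_preserves_injective_linearMap (M := A) ι.toLinearMap hinj
    rw [rTensor_eq_map, rTensor_eq_map, ← h (pS s)]
    show HopfRep.Comod.coact (k := k) (A := A) (ι (pS s)) = _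
    rw [hpS, hpReq, show (s : R') = S'.val s from rfl, hS', ← AlgHom.comp_apply, ← AlgHom.comp_apply,
      ← Algebra.TensorProduct.map_comp, ← Algebra.TensorProduct.map_comp,
      show ι.comp pS = pR.comp S'.val from AlgHom.ext hpS]
  · exact AlgHom.ext fun s => (hpS s).symm

end Groth.Agent.LunaEt
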