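import Groth.Agent.LunaEt.Unram
import Groth.Agent.UnibEtale.Nhd
import Groth.Agent.S9812
import Mathlib.RingTheory.Etale.Locus
import Mathlib.RingTheory.IntegralClosure.IntegrallyClosed
import Mathlib.RingTheory.LocalRing.ResidueField.Instances

/-! # The quotient of a finite equivariant morphism is étale at a closed orbit -/

set_option autoImplicit false
set_option maxHeartbeats 1000000
universe u

open TensorProduct

namespace Groth.Agent.LunaEt

open ComodLib GLin

theorem injective_of_isEtaleAt {S R : Type u} [CommRing S] [IsDomain S] [CommRing R] [IsDomain R] [Algebra S R]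
    [Algebra.FinitePresentation S R] (m : Ideal R) [m.IsPrime] (het : Algebra.IsEtaleAt S m) :
    Function.Injective (algebraMap S R) := by
  obtain ⟨r, hr, he⟩ := Algebra.exists_etale_of_isEtaleAt (R := S) m
  haveI : Module.Flat S (Localization.Away r) := inferInstance
  have hr0 : r ≠ 0 := fun h => hr (h ▸ m.zero_mem)
  haveI : IsDomain (Localization.Away r) :=
    IsLocalization.isDomain_localization (powers_le_nonZeroDivisors_of_noZeroDivisors hr0)
  rw [injective_iff_map_eq_zero]
  intro s hs
  by_contra hne
  have h : s • (1 : Localization.Away r) = 0 := by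
    rw [Algebra.smul_def, IsScalarTower.algebraMap_apply S R (Localization.Away r), hs, map_zero, zero_mul]
  exact one_ne_zero ((smul_eq_zero.mp h).resolve_left hne)

/-- A subring cut out by a projection linear over it is integrally closed. -/
theorem isIntegrallyClosed_of_retraction {B S : Type u} [CommRing B] [IsDomain B] [CommRing S] [IsDomain S]
    [IsIntegrallyClosed S] [Algebra B S] (hi : Function.Injective (algebraMap B S)) (E : S → B)
    (hE : ∀ (b : B) (s : S), E (algebraMap B S b * s) = b * E s) (hE1 : ∀ b : B, E (algebraMap B S b) = b) :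
    IsIntegrallyClosed B := by
  rw [isIntegrallyClosed_iff (FractionRing B)]
  intro z hz
  obtain ⟨a, b, hb, rfl⟩ := IsFractionRing.div_surjective (A := B) z
  have hb0 : b ≠ 0 := nonZeroDivisors.ne_zero hb
  let F : FractionRing B →+* FractionRing S := IsFractionRing.map (A := B) (B := S) hi
  have hF : ∀ c : B, F (algebraMap B (FractionRing B) c) = algebraMap S (FractionRing S) (algebraMap B S c) :=
    fun c => IsLocalization.map_eq _ c
  have hz' : IsIntegral S (F (algebraMap B (FractionRing B) a / algebraMap B (FractionRing B) b)) :=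
    hz.map_of_comp_eq (algebraMap B S) F (RingHom.ext fun c => (hF c).symm)
  obtain ⟨s, hs⟩ := IsIntegrallyClosed.isIntegral_iff.mp hz'
  rw [map_div₀, hF, hF, eq_div_iff (IsFractionRing.to_map_ne_zero_of_mem_nonZeroDivisors
    (mem_nonZeroDivisors_of_ne_zero fun h => hb0 (hi (by rw [h, map_zero])))), ← map_mul] at hs
  have hs' := IsFractionRing.injective S (FractionRing S) hs
  have hab : b * E s = a := by
    rw [← hE, mul_comm, hs', hE1]
  exact ⟨E s, by rw [eq_div_iff (IsFractionRing.to_map_ne_zero_of_mem_nonZeroDivisors hb), ← map_mul, mul_comm,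
    hab]⟩

variable {k : Type u} [Field k] [IsAlgClosed k] [CharZero k] {A : Type u} [CommRing A] [HopfAlgebra k A]
  [Algebra.FiniteType k A] [IsDomain A]
  {S : Type u} [CommRing S] [IsDomain S] [IsIntegrallyClosed S] [Algebra k S] [Algebra.FiniteType k S]
  [HopfRep.Comod k A S] [GLin.IsCoactAlg k A S]
  {R : Type u} [CommRing R] [IsDomain R] [Algebra k R] [Algebra.FiniteType k R]
  [HopfRep.Comod k A R] [GLin.IsCoactAlg k A R]
  [Algebra S R] [IsScalarTower k S R]
  {S₀ : Type u} [CommRing S₀] [Algebra k S₀] [Algebra S₀ S] [IsScalarTower k S₀ S]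
  {R₀ : Type u} [CommRing R₀] [Algebra k R₀] [Algebra R₀ R] [IsScalarTower k R₀ R]
  [Algebra S₀ R₀] [Algebra S₀ R] [IsScalarTower S₀ S R] [IsScalarTower S₀ R₀ R]

theorem isEtaleAt_invariants [Module.Finite S R] (h : Equivariant k A S R) {α : A →ₗ[k] k} (hα : IsIntegral k α)
    (h1 : α 1 = 1) (hS₀i : Function.Injective (algebraMap S₀ S))
    (hS₀ : (IsScalarTower.toAlgHom k S₀ S).range = invariants k A S)
    (hR₀i : Function.Injective (algebraMap R₀ R))
    (hR₀ : (IsScalarTower.toAlgHom k R₀ R).range = invariants k A R)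
    (x : R →ₐ[k] k) (hx : IsClosedOrbit k A x) (m : Ideal R) [m.IsMaximal] (hm : m = RingHom.ker x.toRingHom)
    (het : Algebra.IsEtaleAt S m)
    (hinj : ∀ g : A →ₐ[k] k, actPt k g (x.comp (IsScalarTower.toAlgHom k S R)) = x.comp (IsScalarTower.toAlgHom k S R) →
      actPt k g x = x) :
    Algebra.IsEtaleAt S₀ (m.comap (algebraMap R₀ R)) := by
  haveI : IsNoetherianRing S := Algebra.FiniteType.isNoetherianRing k S
  haveI : Algebra.FinitePresentation S R := Algebra.FinitePresentation.of_finiteType.mp inferInstance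
  have hSR := injective_of_isEtaleAt m het
  haveI : Algebra.IsUnramifiedAt S m := by
    haveI := het
    show Algebra.FormallyUnramified S (Localization.AtPrime m)
    infer_instance
  haveI : IsDomain S₀ := hS₀i.isDomain _
  haveI : IsDomain R₀ := hR₀i.isDomain _
  haveI hfin : Module.Finite S₀ R₀ := finite_invariants h hα h1 hS₀ hR₀i hR₀
  let eS : S₀ ≃ₐ[k] invariants k A S :=
    (AlgEquiv.ofInjective (IsScalarTower.toAlgHom k S₀ S) hS₀i).trans (Subalgebra.equivOfEq _ _ hS₀)
  haveI : IsNoetherianRing S₀ := by
    haveI := isNoetherianRing_invariants (R := S) hα h1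
    exact isNoetherianRing_of_ringEquiv _ eS.symm.toRingEquiv
  haveI : IsNoetherianRing R₀ := IsNoetherianRing.of_finite S₀ R₀
  haveI : IsIntegrallyClosed S₀ := by
    refine isIntegrallyClosed_of_retraction hS₀i (fun s => eS.symm ⟨rey α s, rey_mem_fixedPts hα s⟩)
      (fun b s => eS.injective (Subtype.ext ?_)) (fun b => eS.injective (Subtype.ext ?_))
    · rw [AlgEquiv.apply_symm_apply, map_mul eS b, AlgEquiv.apply_symm_apply]
      show rey α (algebraMap S₀ S b * s) = algebraMap S₀ S b * rey α s
      rw [mul_comm (algebraMap S₀ S b), mul_comm (algebraMap S₀ S b)]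
      exact rey_mul_invariant s (hS₀ ▸ ⟨b, rfl⟩ : algebraMap S₀ S b ∈ invariants k A S)
    · rw [AlgEquiv.apply_symm_apply]
      exact rey_of_fixed h1 (eS b).2
  haveI : CharZero S₀ := charZero_of_injective_algebraMap (algebraMap k S₀).injective
  have hφ : Function.Injective (algebraMap S₀ R₀) := by
    refine Function.Injective.of_comp (f := algebraMap R₀ R) ?_
    rw [← RingHom.coe_comp, ← IsScalarTower.algebraMap_eq, IsScalarTower.algebraMap_eq S₀ S R, RingHom.coe_comp]
    exact hSR.comp hS₀i
  set q := m.comap (algebraMap R₀ R) with hq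
  set p := q.comap (algebraMap S₀ R₀) with hp
  haveI : q.LiesOver p := ⟨rfl⟩
  let := Localization.AtPrime.algebraOfLiesOver p q
  haveI : CharZero p.ResidueField := charZero_of_injective_algebraMap (algebraMap k p.ResidueField).injective
  haveI hu : Algebra.IsUnramifiedAt S₀ q := by
    refine (Algebra.isUnramifiedAt_iff_map_eq S₀ p q).mpr ⟨inferInstance, le_antisymm ?_ ?_⟩
    · rw [IsScalarTower.algebraMap_eq S₀ R₀, ← Ideal.map_map, ← Localization.AtPrime.map_eq_maximalIdeal]
      exact Ideal.map_mono Ideal.map_comap_le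
    · rw [← Localization.AtPrime.map_eq_maximalIdeal]
      refine Ideal.map_le_iff_le_comap.mpr fun f hf => ?_
      obtain ⟨e, he, hef⟩ := exists_mul_mem_map_invariants h hα h1 hS₀ hR₀i hR₀ x hx m hm hinj hf
      rw [Ideal.mem_comap, IsScalarTower.algebraMap_eq S₀ R₀, ← Ideal.map_map]
      exact (IsLocalization.algebraMap_mem_map_algebraMap_iff q.primeCompl _ _ f).mpr ⟨e, he, hef⟩
  haveI : IsIntegrallyClosed (Localization.AtPrime p) :=
    isIntegrallyClosed_of_isLocalization (R := S₀) _ p.primeCompl p.primeCompl_le_nonZeroDivisors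
  haveI : IsDomain (Localization.AtPrime p) :=
    IsLocalization.isDomain_localization p.primeCompl_le_nonZeroDivisors
  have hloc : Function.Injective (Localization.localRingHom p q (algebraMap S₀ R₀) rfl) := by
    rw [injective_iff_map_eq_zero]
    intro z hz
    obtain ⟨a, s, rfl⟩ := IsLocalization.exists_mk'_eq p.primeCompl z
    rw [Localization.localRingHom_mk', IsLocalization.mk'_eq_zero_iff] at hz
    obtain ⟨t, ht⟩ := hz
    have ht0 : (t : R₀) ≠ 0 := fun h => t.2 (h ▸ q.zero_mem)
    rw [hφ (((mul_eq_zero.mp ht).resolve_left ht0).trans (map_zero _).symm), IsLocalization.mk'_zero]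
  obtain ⟨r, hr, het'⟩ := UnibEtale.exists_away_etale S₀ R₀ q p rfl (S9812.result _) hloc
  haveI : Algebra.FinitePresentation S₀ R₀ := Algebra.FinitePresentation.of_finiteType.mp inferInstance
  exact (Algebra.basicOpen_subset_etaleLocus_iff_etale.mpr (RingHom.etale_algebraMap.mp het'))
    (show (⟨q, inferInstance⟩ : PrimeSpectrum R₀) ∈ PrimeSpectrum.basicOpen r from hr)

end Groth.Agent.LunaEt
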