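import Groth.Agent.ComodLib.StableClosed
import Groth.Agent.ComodLib.Invariants
import Mathlib.RingTheory.Ideal.GoingUp
import Mathlib.RingTheory.Finiteness.Nakayama
import Mathlib.RingTheory.Unramified.LocalRing

/-! # Equivariant integral morphisms at a point with closed orbit -/

set_option autoImplicit false
set_option maxHeartbeats 400000
universe u

open TensorProduct

namespace Groth.Agent.LunaEt

open ComodLib GLin

variable {k : Type u} [Field k] {A : Type u} [CommRing A] [HopfAlgebra k A]
  {S : Type u} [CommRing S] [Algebra k S] [HopfRep.Comod k A S] [GLin.IsCoactAlg k A S]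
  {R : Type u} [CommRing R] [Algebra k R] [HopfRep.Comod k A R] [GLin.IsCoactAlg k A R]
  [Algebra S R] [IsScalarTower k S R]

variable (k A) in
/-- The structure map `S → R` commutes with the coactions. -/
def Equivariant (S R : Type u) [CommRing S] [Algebra k S] [HopfRep.Comod k A S]
    [CommRing R] [Algebra k R] [HopfRep.Comod k A R] [Algebra S R] [IsScalarTower k S R] : Prop :=
  ∀ s : S, HopfRep.Comod.coact (k := k) (A := A) (algebraMap S R s) =
      Algebra.TensorProduct.map (IsScalarTower.toAlgHom k S R) (AlgHom.id k A) (HopfRep.Comod.coact (k := k) (A := A) s)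

theorem Equivariant.isComodHom (h : Equivariant k A S R) :
    Hoch.IsComodHom A (IsScalarTower.toAlgHom k S R).toLinearMap := by
  refine LinearMap.ext fun s => ?_
  show HopfRep.Comod.coact (k := k) (A := A) (algebraMap S R s) = _
  rw [h s]
  show _ = (IsScalarTower.toAlgHom k S R).toLinearMap.rTensor A (HopfRep.Comod.coact (k := k) (A := A) s)
  induction HopfRep.Comod.coact (k := k) (A := A) s using TensorProduct.induction_on with
  | zero => simp
  | tmul a b => simp
  | add p q hp hq => simp only [map_add, hp, hq]

theorem Equivariant.isHopfMod (h : Equivariant k A S R) : TameAct.IsHopfMod k A S R := by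
  constructor
  intro b m
  rw [Algebra.smul_def, GLin.IsCoactAlg.coact_mul, h b]
  induction HopfRep.Comod.coact (k := k) (A := A) b using TensorProduct.induction_on with
  | zero => simp
  | tmul a c =>
    induction HopfRep.Comod.coact (k := k) (A := A) m using TensorProduct.induction_on with
    | zero => simp
    | tmul p q => simp [Algebra.smul_def, Algebra.TensorProduct.tmul_mul_tmul]
    | add p q hp hq => simp only [mul_add, map_add, hp, hq]
  | add p q hp hq => simp only [map_add, add_mul, LinearMap.add_apply, hp, hq]

theorem Equivariant.act (h : Equivariant k A S R) (g : A →ₐ[k] k) (s : S) :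
    algebraMap S R (HopfRep.Comod.act k A S g s) = HopfRep.Comod.act k A R g (algebraMap S R s) :=
  comodHom_actF h.isComodHom g.toLinearMap s

theorem Equivariant.orbitHom_comp (h : Equivariant k A S R) (y : R →ₐ[k] k) :
    orbitHom k A (y.comp (IsScalarTower.toAlgHom k S R)) = (orbitHom k A y).comp (IsScalarTower.toAlgHom k S R) := by
  refine AlgHom.ext fun s => ?_
  rw [orbitHom_apply, AlgHom.comp_apply, orbitHom_apply, IsScalarTower.toAlgHom_apply, h s]
  induction HopfRep.Comod.coact (k := k) (A := A) s using TensorProduct.induction_on with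
  | zero => simp
  | tmul a b => simp
  | add p q hp hq => simp only [map_add, hp, hq]

theorem Equivariant.actPt_comp (h : Equivariant k A S R) (g : A →ₐ[k] k) (y : R →ₐ[k] k) :
    actPt k g (y.comp (IsScalarTower.toAlgHom k S R)) = (actPt k g y).comp (IsScalarTower.toAlgHom k S R) := by
  show g.comp (orbitHom k A _) = _
  rw [h.orbitHom_comp]
  rfl

/-- The image of a closed orbit under an equivariant integral map is closed. -/
theorem Equivariant.isClosedOrbit_comp [Algebra.IsIntegral S R] (h : Equivariant k A S R) {x : R →ₐ[k] k}
    (hx : IsClosedOrbit k A x) : IsClosedOrbit k A (x.comp (IsScalarTower.toAlgHom k S R)) := by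
  show IsClosed _
  rw [h.orbitHom_comp]
  show IsClosed (Set.range (PrimeSpectrum.comap ((orbitHom k A x).toRingHom.comp (algebraMap S R))))
  rw [PrimeSpectrum.comap_comp, Set.range_comp]
  exact PrimeSpectrum.isClosedMap_comap_of_isIntegral _ Algebra.IsIntegral.isIntegral _ hx

theorem act_inv_act (g : A →ₐ[k] k) (b : R) :
    HopfRep.Comod.act k A R g (HopfRep.Comod.act k A R (WithConv.toConv g)⁻¹.ofConv b) = b := by
  have e := actF_convMul (V := R) (WithConv.toConv g.toLinearMap)
    (WithConv.toConv (WithConv.toConv g)⁻¹.ofConv.toLinearMap) b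
  refine e.symm.trans ?_
  have e2 : (WithConv.toConv g.toLinearMap * WithConv.toConv (WithConv.toConv g)⁻¹.ofConv.toLinearMap).ofConv =
      (WithConv.toConv g * (WithConv.toConv g)⁻¹).ofConv.toLinearMap := rfl
  rw [e2, mul_inv_cancel]
  exact actF_counit b

/-- A point acts by a ring endomorphism. -/
noncomputable def actHom (g : A →ₐ[k] k) : R →+* R where
  toFun := HopfRep.Comod.act k A R g
  map_one' := act_fixed (R := R) (GLin.invariants k A R).one_mem g
  map_mul' := ComodLib.act_mul g
  map_zero' := map_zero _
  map_add' := map_add _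

theorem actHom_apply (g : A →ₐ[k] k) (r : R) : actHom g r = HopfRep.Comod.act k A R g r := rfl

variable [IsAlgClosed k] [Algebra.FiniteType k A] [Algebra.FiniteType k R] [IsDomain A]

/-- With integrality, a point over the image of a point with closed orbit and with the same invariants
is that point, if the stabilisers agree. -/
theorem eq_of_comp_eq [Algebra.IsIntegral S R] (h : Equivariant k A S R) {α : A →ₗ[k] k} (hα : IsIntegral k α)
    (h1 : α 1 = 1) {x y : R →ₐ[k] k} (hx : IsClosedOrbit k A x)
    (hinj : ∀ g : A →ₐ[k] k, actPt k g (x.comp (IsScalarTower.toAlgHom k S R)) = x.comp (IsScalarTower.toAlgHom k S R) →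
      actPt k g x = x)
    (hxy : ∀ f ∈ invariants k A R, y f = x f)
    (he : y.comp (IsScalarTower.toAlgHom k S R) = x.comp (IsScalarTower.toAlgHom k S R)) : y = x := by
  obtain ⟨z, hz1, hz2⟩ := exists_closures_meet hα h1 y x hxy
  obtain ⟨g, rfl⟩ := mem_orbit_of_isClosedOrbit hx hz2
  have hle : RingHom.ker (orbitHom k A y) ≤ RingHom.ker (orbitHom k A x) :=
    ((inOrbitClosure_iff _ _).mp hz1).trans (ker_orbitHom_actPt g x).le
  have hker : RingHom.ker (orbitHom k A y) = RingHom.ker (orbitHom k A x) := by
    rcases hle.lt_or_eq with hlt | heq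
    · haveI : (RingHom.ker (orbitHom k A y)).IsPrime := RingHom.ker_isPrime _
      have h2 := Ideal.IsIntegral.comap_lt_comap (R := S) hlt
      exact absurd (congrArg RingHom.ker (((h.orbitHom_comp y).symm.trans (congrArg _ he)).trans (h.orbitHom_comp x)))
        h2.ne
    · exact heq
  obtain ⟨g', hg'⟩ := exists_actPt_of_ker_eq hker.symm
  subst hg'
  exact hinj g' ((h.actPt_comp g' x).trans he)

end Groth.Agent.LunaEt
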