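import Groth.Agent.LunaEt.Sep
import Mathlib.RingTheory.Adjoin.Tower

/-! # Finite equivariant morphisms at a closed orbit -/

set_option autoImplicit false
set_option maxHeartbeats 400000
universe u

open TensorProduct

namespace Groth.Agent.LunaEt

open ComodLib GLin

variable {k : Type u} [Field k] [IsAlgClosed k] {A : Type u} [CommRing A] [HopfAlgebra k A]
  [Algebra.FiniteType k A] [IsDomain A]
  {S : Type u} [CommRing S] [Algebra k S] [Algebra.FiniteType k S] [HopfRep.Comod k A S] [GLin.IsCoactAlg k A S]
  {R : Type u} [CommRing R] [Algebra k R] [Algebra.FiniteType k R] [HopfRep.Comod k A R] [GLin.IsCoactAlg k A R]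
  [Algebra S R] [IsScalarTower k S R]

/-- A point over a closed orbit has closed orbit, for an integral equivariant morphism. -/
theorem isClosedOrbit_of_comp [Algebra.IsIntegral S R] (h : Equivariant k A S R) {x : R →ₐ[k] k}
    (hy : IsClosedOrbit k A (x.comp (IsScalarTower.toAlgHom k S R))) : IsClosedOrbit k A x := by
  refine isClosedOrbit_of_forall_mem fun w hw => ?_
  have hle := (inOrbitClosure_iff x w).mp hw
  have hS : ∀ y : R →ₐ[k] k, RingHom.ker (orbitHom k A (y.comp (IsScalarTower.toAlgHom k S R))) =
      (RingHom.ker (orbitHom k A y)).comap (algebraMap S R) := fun y => by rw [h.orbitHom_comp]; rfl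
  have hwS : InOrbitClosure k A (x.comp (IsScalarTower.toAlgHom k S R)) (w.comp (IsScalarTower.toAlgHom k S R)) := by
    refine (inOrbitClosure_iff _ _).mpr ?_
    rw [hS, hS]
    exact Ideal.comap_mono hle
  obtain ⟨g, hg⟩ := mem_orbit_of_isClosedOrbit hy hwS
  have hcomap : RingHom.ker (orbitHom k A (w.comp (IsScalarTower.toAlgHom k S R))) =
      RingHom.ker (orbitHom k A (x.comp (IsScalarTower.toAlgHom k S R))) := by
    rw [hg, ker_orbitHom_actPt]
  rw [hS, hS] at hcomap
  haveI : (RingHom.ker (orbitHom k A x)).IsPrime := RingHom.ker_isPrime _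
  rcases hle.lt_or_eq with hlt | heq
  · exact absurd hcomap.symm (Ideal.IsIntegral.comap_lt_comap (R := S) hlt).ne
  · exact exists_actPt_of_ker_eq heq

/-- Near a closed orbit on which a finite equivariant morphism is injective and unramified, the algebra is
generated by the base and the invariants. -/
theorem exists_invariant_conductor_adjoin [Module.Finite S R] (h : Equivariant k A S R) {α : A →ₗ[k] k}
    (hα : ComodLib.IsIntegral k α) (h1 : α 1 = 1) (x : R →ₐ[k] k) (hx : IsClosedOrbit k A x)
    (hunr : ∀ r ∈ RingHom.ker x, ∃ v, v ∉ RingHom.ker x ∧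
      v * r ∈ ((RingHom.ker x).comap (algebraMap S R)).map (algebraMap S R))
    (hinj : ∀ g : A →ₐ[k] k, actPt k g (x.comp (IsScalarTower.toAlgHom k S R)) = x.comp (IsScalarTower.toAlgHom k S R) →
      actPt k g x = x) :
    ∃ f ∈ invariants k A R, x f ≠ 0 ∧ ∀ t : R, f * t ∈ Algebra.adjoin S (invariants k A R : Set R) := by
  classical
  set W := Algebra.adjoin S (invariants k A R : Set R) with hW
  haveI : IsNoetherianRing S := Algebra.FiniteType.isNoetherianRing k S
  have hWstab : ∀ (g : A →ₐ[k] k), ∀ a ∈ W, HopfRep.Comod.act k A R g a ∈ W := by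
    intro g a ha
    rw [← actHom_apply]
    induction ha using Algebra.adjoin_induction with
    | mem x hx => rw [actHom_apply, act_fixed hx g]; exact Algebra.subset_adjoin hx
    | algebraMap s => rw [actHom_apply, ← h.act g s]; exact W.algebraMap_mem _
    | add x y _ _ hx hy => rw [map_add]; exact add_mem hx hy
    | mul x y _ _ hx hy => rw [map_mul]; exact mul_mem hx hy
  let J : Ideal R :=
    { carrier := {c | ∀ t : R, c * t ∈ W}
      zero_mem' := fun t => by rw [zero_mul]; exact W.zero_mem
      add_mem' := fun {a b} ha hb t => by rw [add_mul]; exact W.add_mem (ha t) (hb t)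
      smul_mem' := fun c a ha t => by rw [smul_eq_mul, mul_comm c, mul_assoc]; exact ha _ }
  have hJ : ∀ (g : A →ₐ[k] k), ∀ a ∈ J, HopfRep.Comod.act k A R g a ∈ J := by
    intro g a ha t
    have := hWstab g _ (ha (HopfRep.Comod.act k A R (WithConv.toConv g)⁻¹.ofConv t))
    rwa [ComodLib.act_mul, act_inv_act] at this
  have hnle : ¬ J ≤ RingHom.ker x := by
    intro hle
    haveI : Module.Finite W R := Module.Finite.of_restrictScalars_finite S W R
    let n : Ideal W := (RingHom.ker x).comap (algebraMap W R)
    -- only `x` lies over its image in `Spec W`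
    have hpts : ∀ y : R →ₐ[k] k, n.map (algebraMap W R) ≤ RingHom.ker y → y = x := by
      intro y hy
      have hyW : ∀ w : W, y w = x w := fun w => by
        have h0 : w - algebraMap k W (x w) ∈ n := by
          show x ((w - algebraMap k W (x w) : W) : R) = 0
          rw [AddSubgroupClass.coe_sub, map_sub]
          show x w - x (algebraMap k R (x w)) = 0
          rw [AlgHom.commutes, Algebra.algebraMap_self_apply, sub_self]
        have h1' : y ((w - algebraMap k W (x w) : W) : R) = 0 := hy (Ideal.mem_map_of_mem _ h0)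
        rw [AddSubgroupClass.coe_sub, map_sub, show ((algebraMap k W (x w) : W) : R) = algebraMap k R (x w) from rfl,
          AlgHom.commutes, Algebra.algebraMap_self_apply, sub_eq_zero] at h1'
        exact h1'
      exact eq_of_comp_eq h hα h1 hx hinj (fun f hf => hyW ⟨f, Algebra.subset_adjoin hf⟩)
        (AlgHom.ext fun s => hyW (algebraMap S W s))
    have hmI : RingHom.ker x ≤ n.map (algebraMap W R) := by
      intro r hr
      obtain ⟨v, hv, hvr⟩ := hunr r hr
      have hvr' : v * r ∈ n.map (algebraMap W R) := by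
        refine (?_ : _ ≤ n.map (algebraMap W R)) hvr
        rw [IsScalarTower.algebraMap_eq S W R, ← Ideal.map_map, ← Ideal.comap_comap]
        exact Ideal.map_mono Ideal.map_comap_le
      have htop : n.map (algebraMap W R) ⊔ Ideal.span {v} = ⊤ := by
        by_contra hne
        obtain ⟨y, hy⟩ := exists_point (k := k) _ hne
        have hyx := hpts y (le_sup_left.trans hy)
        exact hv (hyx ▸ hy (Ideal.mem_sup_right (Ideal.subset_span rfl)))
      obtain ⟨i, hi, w, hw, hiw⟩ := Submodule.mem_sup.mp ((Ideal.eq_top_iff_one _).mp htop)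
      obtain ⟨a, rfl⟩ := Ideal.mem_span_singleton'.mp hw
      have : r = i * r + a * (v * r) := by rw [← mul_assoc, ← add_mul, hiw, one_mul]
      rw [this]
      exact Ideal.add_mem _ (Ideal.mul_mem_right _ _ hi) (Ideal.mul_mem_left _ _ hvr')
    set N : Submodule W R := LinearMap.range (Algebra.linearMap W R) with hN
    have hK : (⊤ : Submodule W (R ⧸ N)) ≤ n • ⊤ := by
      intro z _
      obtain ⟨t, rfl⟩ := N.mkQ_surjective z
      have ht : t - algebraMap k R (x t) ∈ RingHom.ker x := by
        rw [RingHom.mem_ker, map_sub, AlgHom.commutes, Algebra.algebraMap_self_apply, sub_self]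
      have ht' : t - algebraMap k R (x t) ∈ n • (⊤ : Submodule W R) := by
        rw [Ideal.smul_top_eq_map]; exact hmI ht
      have h0 : N.mkQ (algebraMap k R (x t)) = 0 :=
        (Submodule.Quotient.mk_eq_zero N).mpr ⟨algebraMap k W (x t), rfl⟩
      have := Submodule.mem_map_of_mem (f := N.mkQ) ht'
      rw [Submodule.map_smul'', map_sub, h0, sub_zero, Submodule.map_top, Submodule.range_mkQ] at this
      exact this
    obtain ⟨v, hv1, hv2⟩ :=
      Submodule.exists_sub_one_mem_and_smul_eq_zero_of_fg_of_le_smul n ⊤ Module.Finite.fg_top hK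
    have hvJ : (v : R) ∈ J := fun t => by
      have := hv2 (N.mkQ t) trivial
      rw [← map_smul, Submodule.mkQ_apply, Submodule.Quotient.mk_eq_zero] at this
      obtain ⟨w, hw⟩ := this
      have hw' : (v : R) * t = (w : R) := hw.symm
      rw [hw']
      exact w.2
    have hv0 : x (v : R) = 0 := hle hvJ
    have hv1' : x ((v - 1 : W) : R) = 0 := hv1
    rw [AddSubgroupClass.coe_sub, map_sub, hv0, OneMemClass.coe_one, map_one, zero_sub, neg_eq_zero] at hv1'
    exact one_ne_zero hv1'
  obtain ⟨f, hf, hfJ, hxf⟩ := exists_invariant_of_stable hα h1 x hx J hJ hnle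
  exact ⟨f, hf, hxf, hfJ⟩

end Groth.Agent.LunaEt
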