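import Groth.Agent.LunaEt.Finite

/-! # An unramified equivariant morphism at a point over a closed orbit -/

set_option autoImplicit false
set_option maxHeartbeats 1000000
universe u

open TensorProduct

namespace Groth.Agent.LunaEt

open ComodLib GLin

variable {k : Type u} [Field k] [IsAlgClosed k] {A : Type u} [CommRing A] [HopfAlgebra k A]
  [Algebra.FiniteType k A] [IsDomain A]
  {S : Type u} [CommRing S] [Algebra k S] [Algebra.FiniteType k S] [HopfRep.Comod k A S] [GLin.IsCoactAlg k A S]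
  {R : Type u} [CommRing R] [Algebra k R] [Algebra.FiniteType k R] [HopfRep.Comod k A R] [GLin.IsCoactAlg k A R]
  [Algebra S R] [IsScalarTower k S R]
  {S₀ : Type u} [CommRing S₀] [Algebra k S₀] [Algebra S₀ S] [IsScalarTower k S₀ S]
  {R₀ : Type u} [CommRing R₀] [Algebra k R₀] [Algebra R₀ R] [IsScalarTower k R₀ R]
  [Algebra S₀ R₀] [Algebra S₀ R] [IsScalarTower S₀ S R] [IsScalarTower S₀ R₀ R]

theorem exists_model_facts (h : Equivariant k A S R) {α : A →ₗ[k] k} (hα : ComodLib.IsIntegral k α) (h1 : α 1 = 1)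
    (hS₀i : Function.Injective (algebraMap S₀ S))
    (hS₀ : (IsScalarTower.toAlgHom k S₀ S).range = invariants k A S)
    (hR₀i : Function.Injective (algebraMap R₀ R))
    (hR₀ : (IsScalarTower.toAlgHom k R₀ R).range = invariants k A R)
    (x : R →ₐ[k] k) (m : Ideal R) [m.IsMaximal] (hm : m = RingHom.ker x.toRingHom)
    [Algebra.IsUnramifiedAt S m]
    (hy : IsClosedOrbit k A (x.comp (IsScalarTower.toAlgHom k S R)))
    (hinj : ∀ g : A →ₐ[k] k, actPt k g (x.comp (IsScalarTower.toAlgHom k S R)) = x.comp (IsScalarTower.toAlgHom k S R) →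
      actPt k g x = x) :
    IsClosedOrbit k A x ∧
      (∃ f : R₀, x (algebraMap R₀ R f) ≠ 0 ∧
        ∀ t : R, ∃ n : ℕ, algebraMap R₀ R f ^ n * t ∈ Algebra.adjoin S (invariants k A R : Set R)) ∧
      ∀ f : R₀, f ∈ m.comap (algebraMap R₀ R) → ∃ e ∉ m.comap (algebraMap R₀ R),
        e * f ∈ ((m.comap (algebraMap R₀ R)).comap (algebraMap S₀ R₀)).map (algebraMap S₀ R₀) := by
  classical
  haveI : IsNoetherianRing S := Algebra.FiniteType.isNoetherianRing k S
  haveI : Algebra.FiniteType S R := Algebra.FiniteType.of_restrictScalars_finiteType k S R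
  have hmem : ∀ r : R, r ∈ m ↔ x r = 0 := fun r => hm ▸ RingHom.mem_ker
  obtain ⟨B, hBfin, hBst, r, hrB, hr, hrt⟩ := exists_finite_model h m
  obtain ⟨c, hcA, hc⟩ := EquivZMT.exists_comod_subalgebra (A := A) (B.restrictScalars k)
    (isSubcomod_of_forall_act fun g v hv => hBst g v hv)
  letI : HopfRep.Comod k A B := c
  haveI : GLin.IsCoactAlg k A B := hcA
  haveI : Algebra.FiniteType k B := Algebra.FiniteType.trans (S := S) inferInstance inferInstance
  have hBR : Equivariant k A B R := fun b => by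
    have := hc b
    refine this.trans ?_
    rfl
  have hBSR : ∀ s : S, algebraMap B R (algebraMap S B s) = algebraMap S R s := fun s => rfl
  have hSB : Equivariant k A S B := by
    intro s
    apply Module.Flat.rTensor_preserves_injective_linearMap (M := A) (B.val.toLinearMap.restrictScalars k)
      Subtype.val_injective
    have h1' : ∀ z : B ⊗[k] A, ((B.val.toLinearMap.restrictScalars k).rTensor A) z =
        Algebra.TensorProduct.map (IsScalarTower.toAlgHom k B R) (AlgHom.id k A) z := fun z => by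
      induction z using TensorProduct.induction_on with
      | zero => simp
      | add a b ha hb => simp only [map_add, ha, hb]
      | tmul a b => rfl
    rw [h1', h1', ← hBR (algebraMap S B s), hBSR, h s]
    induction HopfRep.Comod.coact (k := k) (A := A) s using TensorProduct.induction_on with
    | zero => simp
    | add a b ha hb => simp only [map_add, ha, hb]
    | tmul a b => rfl
  let ι : B →ₐ[k] R := IsScalarTower.toAlgHom k B R
  let xB : B →ₐ[k] k := x.comp ι
  have hx0 : x r ≠ 0 := fun h' => hr ((hmem r).mpr h')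
  have hyB : IsClosedOrbit k A (xB.comp (IsScalarTower.toAlgHom k S B)) := hy
  have hxB : IsClosedOrbit k A xB := isClosedOrbit_of_comp hSB hyB
  -- the invariant making `B → R` an isomorphism
  have hinjB : ∀ g : A →ₐ[k] k,
      actPt k g (xB.comp (IsScalarTower.toAlgHom k S B)) = xB.comp (IsScalarTower.toAlgHom k S B) →
        actPt k g xB = xB := fun g hg => by
    have := hinj g hg
    rw [show xB = x.comp ι from rfl, hBR.actPt_comp g x, this]
  obtain ⟨G, hG⟩ := (Algebra.FiniteType.out : (⊤ : Subalgebra k R).FG)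
  obtain ⟨U, hUfin, hGU, hU⟩ := exists_finite_subcomod_le (k := k) (C := A) G.finite_toSet
  let Z : Ideal B :=
    { carrier := {b | ∀ u ∈ U, (b : R) * u ∈ B}
      zero_mem' := fun u _ => by rw [ZeroMemClass.coe_zero, zero_mul]; exact B.zero_mem
      add_mem' := fun {a b} ha hb u hu => by
        rw [AddMemClass.coe_add, add_mul]; exact B.add_mem (ha u hu) (hb u hu)
      smul_mem' := fun c a ha u hu => by
        rw [smul_eq_mul, MulMemClass.coe_mul, mul_assoc]; exact B.mul_mem c.2 (ha u hu) }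
  have hZst : ∀ (g : A →ₐ[k] k), ∀ a ∈ Z, HopfRep.Comod.act k A B g a ∈ Z := by
    intro g a ha u hu
    have e : ((HopfRep.Comod.act k A B g a : B) : R) = HopfRep.Comod.act k A R g (a : R) := hBR.act g a
    rw [e, ← act_inv_act g u, ← ComodLib.act_mul]
    exact hBst g _ (ha _ (subcomod_actF_mem hU _ hu))
  have hZx : ¬ Z ≤ RingHom.ker xB := by
    intro hle
    obtain ⟨T, hT⟩ : U.FG := Module.Finite.iff_fg.1 hUfin
    choose n hn using hrt
    let M := T.sup n
    have hM : (⟨r, hrB⟩ : B) ^ M ∈ Z := by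
      intro u hu
      rw [← hT] at hu
      show ((⟨r, hrB⟩ : B) ^ M : B).1 * u ∈ B
      rw [SubmonoidClass.coe_pow]
      induction hu using Submodule.span_induction with
      | mem u hu' =>
        have hle' : M = (M - n u) + n u := (Nat.sub_add_cancel (Finset.le_sup (f := n) hu' : n u ≤ M)).symm
        rw [hle', pow_add, mul_assoc]
        exact B.mul_mem (B.pow_mem hrB _) (hn u)
      | zero => simp
      | add a b _ _ ha hb => rw [mul_add]; exact B.add_mem ha hb
      | smul c a _ ha => rw [mul_smul_comm]; exact (Subalgebra.toSubmodule (B.restrictScalars k)).smul_mem c ha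
    have : x (((⟨r, hrB⟩ : B) ^ M : B) : R) = 0 := hle hM
    rw [SubmonoidClass.coe_pow, map_pow] at this
    exact hx0 (pow_eq_zero_iff'.mp this).1
  obtain ⟨bz, hbz, hbzZ, hbzx⟩ := exists_invariant_of_stable hα h1 xB hxB Z hZst hZx
  have hbzt : ∀ t : R, ∃ n : ℕ, (bz : R) ^ n * t ∈ B := by
    intro t
    have ht : t ∈ Algebra.adjoin k (G : Set R) := hG ▸ Algebra.mem_top
    induction ht using Algebra.adjoin_induction with
    | mem g hg => exact ⟨1, by rw [pow_one]; exact hbzZ g (hGU hg)⟩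
    | algebraMap a => exact ⟨0, by rw [pow_zero, one_mul]; exact (B.restrictScalars k).algebraMap_mem a⟩
    | add a b _ _ ha hb =>
      obtain ⟨n, hn⟩ := ha
      obtain ⟨n', hn'⟩ := hb
      refine ⟨n + n', ?_⟩
      have : (bz : R) ^ (n + n') * (a + b) = (bz : R) ^ n' * ((bz : R) ^ n * a) + (bz : R) ^ n * ((bz : R) ^ n' * b) := by
        ring
      rw [this]
      exact B.add_mem (B.mul_mem (B.pow_mem bz.2 _) hn) (B.mul_mem (B.pow_mem bz.2 _) hn')
    | mul a b _ _ ha hb =>
      obtain ⟨n, hn⟩ := ha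
      obtain ⟨n', hn'⟩ := hb
      refine ⟨n + n', ?_⟩
      rw [pow_add, mul_mul_mul_comm]
      exact B.mul_mem hn hn'
  have hmap : ∀ b ∈ invariants k A B, (b : R) ∈ invariants k A R := fun b hb =>
    map_mem_fixedPts hBR.isComodHom hb
  -- points of `R` where `bz` does not vanish are determined by `B`
  have hdet : ∀ w w' : R →ₐ[k] k, w (bz : R) ≠ 0 → w.comp ι = w'.comp ι → w = w' := by
    intro w w' hw he
    refine AlgHom.ext fun t => ?_
    obtain ⟨n, hn⟩ := hbzt t
    have hb : ∀ b : B, w (b : R) = w' (b : R) := fun b => AlgHom.congr_fun he b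
    have h3 := hb ⟨_, hn⟩
    simp only [map_mul, map_pow] at h3
    rw [← hb bz] at h3
    exact mul_left_cancel₀ (pow_ne_zero n hw) h3
  have hxc : IsClosedOrbit k A x := by
    refine isClosedOrbit_of_forall_mem fun w hw => ?_
    have hwB : InOrbitClosure k A xB (w.comp ι) := by
      intro b hb
      rw [RingHom.mem_ker] at hb ⊢
      refine hw ?_
      rw [RingHom.mem_ker]
      exact (AlgHom.congr_fun (hBR.orbitHom_comp x) b).symm.trans hb
    obtain ⟨g, hg⟩ := mem_orbit_of_isClosedOrbit hxB hwB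
    refine ⟨g, hdet _ _ ?_ ?_⟩
    · rw [eq_of_closures_meet_invariant hw (hmap bz hbz)]; exact hbzx
    · rw [hg]; exact hBR.actPt_comp g x
  have hlift : ∀ b ∈ invariants k A B, ∃ b₀ : R₀, algebraMap R₀ R b₀ = (b : R) := fun b hb => by
    have : (b : R) ∈ (IsScalarTower.toAlgHom k R₀ R).range := hR₀.symm ▸ hmap b hb
    exact this
  obtain ⟨z₀, hz₀⟩ := hlift bz hbz
  have hz₀x : x (algebraMap R₀ R z₀) ≠ 0 := hz₀ ▸ hbzx
  have hunrB : ∀ b ∈ RingHom.ker xB, ∃ v, v ∉ RingHom.ker xB ∧
      v * b ∈ ((RingHom.ker xB).comap (algebraMap S B)).map (algebraMap S B) := by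
    intro b hb
    obtain ⟨v, hv, hvb⟩ := exists_mul_mem_map (S := S) m ((hmem (b : R)).mpr hb)
    set n := (RingHom.ker xB).comap (algebraMap S B) with hn
    have hnn : m.comap (algebraMap S R) = n := Ideal.ext fun s => hmem _
    rw [hnn] at hvb
    have key : ∀ t ∈ n.map (algebraMap S R), ∃ N : ℕ, ∀ N' ≥ N, ∃ i : B, i ∈ n.map (algebraMap S B) ∧
        (i : R) = (bz : R) ^ N' * t := by
      intro t ht
      induction ht using Submodule.span_induction with
      | mem t ht =>
        obtain ⟨s, hs, rfl⟩ := ht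
        exact ⟨0, fun N' _ => ⟨bz ^ N' * algebraMap S B s, Ideal.mul_mem_left _ _ (Ideal.mem_map_of_mem _ hs), rfl⟩⟩
      | zero => exact ⟨0, fun N' _ => ⟨0, Submodule.zero_mem _, by simp⟩⟩
      | add a b _ _ ha hb =>
        obtain ⟨N, hN⟩ := ha
        obtain ⟨N₂, hN₂⟩ := hb
        refine ⟨max N N₂, fun N' hN' => ?_⟩
        obtain ⟨i, hi, hie⟩ := hN N' (le_of_max_le_left hN')
        obtain ⟨i₂, hi₂, hie₂⟩ := hN₂ N' (le_of_max_le_right hN')
        exact ⟨i + i₂, Ideal.add_mem _ hi hi₂, by rw [AddMemClass.coe_add, hie, hie₂, mul_add]⟩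
      | smul c a _ ha =>
        obtain ⟨N, hN⟩ := ha
        obtain ⟨Nc, hNc⟩ := hbzt c
        refine ⟨N + Nc, fun N' hN' => ?_⟩
        obtain ⟨i, hi, hie⟩ := hN (N' - Nc) (Nat.le_sub_of_add_le hN')
        refine ⟨⟨_, hNc⟩ * i, Ideal.mul_mem_left _ _ hi, ?_⟩
        have e : N' = Nc + (N' - Nc) := (Nat.add_sub_cancel' (le_trans (Nat.le_add_left _ _) hN')).symm
        rw [MulMemClass.coe_mul, hie, smul_eq_mul]
        nth_rewrite 2 [e]
        rw [pow_add]
        ring
    obtain ⟨N, hN⟩ := key _ hvb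
    obtain ⟨Nv, hNv⟩ := hbzt v
    obtain ⟨i, hi, hie⟩ := hN (N + Nv) (Nat.le_add_right _ _)
    refine ⟨bz ^ N * ⟨_, hNv⟩, fun hker => ?_, ?_⟩
    · have : x (((bz ^ N * ⟨_, hNv⟩ : B)) : R) = 0 := hker
      rw [MulMemClass.coe_mul, SubmonoidClass.coe_pow] at this
      simp only [map_mul, map_pow] at this
      rcases mul_eq_zero.mp this with h' | h'
      · exact pow_ne_zero N hbzx h'
      · rcases mul_eq_zero.mp h' with h'' | h''
        · exact pow_ne_zero Nv hbzx h''
        · exact hv ((hmem v).mpr h'')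
    · have : (bz ^ N * ⟨_, hNv⟩ : B) * b = i := Subtype.ext (by
        rw [hie, MulMemClass.coe_mul, MulMemClass.coe_mul, SubmonoidClass.coe_pow, pow_add]
        ring)
      rw [this]
      exact hi
  refine ⟨hxc, ?_, ?_⟩
  · obtain ⟨b, hb, hxb, hbW⟩ := exists_invariant_conductor_adjoin hSB hα h1 xB hxB hunrB hinjB
    obtain ⟨b₀, hb₀⟩ := hlift b hb
    refine ⟨b₀ * z₀, ?_, fun t => ?_⟩
    · rw [map_mul, map_mul, hb₀]
      exact mul_ne_zero hxb hz₀x
    · have hWW : ∀ w ∈ Algebra.adjoin S (invariants k A B : Set B),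
          (w : R) ∈ Algebra.adjoin S (invariants k A R : Set R) := fun w hw => by
        induction hw using Algebra.adjoin_induction with
        | mem w hw => exact Algebra.subset_adjoin (hmap w hw)
        | algebraMap s => exact Subalgebra.algebraMap_mem _ s
        | add a b _ _ ha hb => exact Subalgebra.add_mem _ ha hb
        | mul a b _ _ ha hb => exact Subalgebra.mul_mem _ ha hb
      obtain ⟨n, hn⟩ := hbzt t
      refine ⟨n + 1, ?_⟩
      have h' := hWW _ (hbW (bz * ⟨_, hn⟩))
      have e : algebraMap R₀ R (b₀ * z₀) ^ (n + 1) * t = (b : R) ^ n * ((b : R) * ((bz : R) * ((bz : R) ^ n * t))) := by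
        rw [map_mul, hb₀, hz₀]; ring
      rw [e]
      exact Subalgebra.mul_mem _ (Subalgebra.pow_mem _ (Algebra.subset_adjoin (hmap b hb)) n) h'
  · intro f hf
    letI : Algebra S₀ B := ((algebraMap S B).comp (algebraMap S₀ S)).toAlgebra
    haveI : IsScalarTower S₀ S B := IsScalarTower.of_algebraMap_eq' rfl
    let B₀ := invariants k A B
    let lS : S₀ →ₐ[k] B :=
      (IsScalarTower.toAlgHom k S B).comp (IsScalarTower.toAlgHom k S₀ S)
    have hlS : ∀ s, lS s ∈ B₀ := fun s => map_mem_fixedPts hSB.isComodHom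
      (hS₀ ▸ ⟨s, rfl⟩ : algebraMap S₀ S s ∈ invariants k A S)
    letI : Algebra S₀ B₀ := (lS.codRestrict B₀ hlS).toAlgebra
    haveI : IsScalarTower S₀ B₀ B := IsScalarTower.of_algebraMap_eq' rfl
    have hB₀ : (IsScalarTower.toAlgHom k B₀ B).range = invariants k A B :=
      Subalgebra.ext fun f => ⟨fun ⟨a, ha⟩ => ha ▸ a.2, fun hf => ⟨⟨f, hf⟩, rfl⟩⟩
    haveI : Module.Finite S₀ B₀ := finite_invariants hSB hα h1 hS₀ Subtype.val_injective hB₀
    haveI : IsNoetherianRing S₀ := by
      haveI := isNoetherianRing_invariants (R := S) hα h1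
      exact isNoetherianRing_of_ringEquiv _ (((AlgEquiv.ofInjective (IsScalarTower.toAlgHom k S₀ S) hS₀i).trans
        (Subalgebra.equivOfEq _ _ hS₀)).symm.toRingEquiv)
    haveI : IsNoetherianRing B₀ := IsNoetherianRing.of_finite S₀ B₀
    haveI : (RingHom.ker xB).IsMaximal := RingHom.ker_isMaximal_of_surjective _
      fun c => ⟨algebraMap k B c, xB.commutes c⟩
    -- compare the invariants of `B` and of `R` near `x`
    let v : B₀ →+* R₀ := (((AlgEquiv.ofInjective (IsScalarTower.toAlgHom k R₀ R) hR₀i).trans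
      (Subalgebra.equivOfEq _ _ hR₀)).symm.toAlgHom.comp
        ((ι.comp B₀.val).codRestrict (invariants k A R) fun b => hmap b b.2)).toRingHom
    have hv : ∀ b : B₀, algebraMap R₀ R (v b) = ((b : B) : R) := fun b => congrArg Subtype.val
      (((AlgEquiv.ofInjective (IsScalarTower.toAlgHom k R₀ R) hR₀i).trans
        (Subalgebra.equivOfEq _ _ hR₀)).apply_symm_apply ⟨_, hmap b b.2⟩)
    obtain ⟨n, hn⟩ := hbzt (algebraMap R₀ R f)
    have hbz₀ : bz ∈ B₀ := hbz
    have hfB : (⟨_, hn⟩ : B) ∈ B₀ := by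
      show HopfRep.Comod.coact (k := k) (A := A) (⟨_, hn⟩ : B) = (⟨_, hn⟩ : B) ⊗ₜ[k] (1 : A)
      apply Module.Flat.rTensor_preserves_injective_linearMap (M := A) ι.toLinearMap Subtype.val_injective
      have h1' : ∀ z : B ⊗[k] A, ι.toLinearMap.rTensor A z = Algebra.TensorProduct.map ι (AlgHom.id k A) z :=
        fun z => by
        induction z using TensorProduct.induction_on with
        | zero => simp
        | add a b ha hb => simp only [map_add, ha, hb]
        | tmul a b => rfl
      rw [h1', h1', ← hBR]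
      exact (invariants k A R).mul_mem ((invariants k A R).pow_mem (hmap bz hbz) n)
        (hR₀ ▸ ⟨f, rfl⟩ : algebraMap R₀ R f ∈ invariants k A R)
    have hf' : (⟨⟨_, hn⟩, hfB⟩ : B₀) ∈ (RingHom.ker xB).comap (algebraMap B₀ B) := by
      show x ((bz : R) ^ n * algebraMap R₀ R f) = 0
      rw [map_mul, (hmem _).mp hf, mul_zero]
    obtain ⟨e, he, hef⟩ := exists_mul_mem_map_invariants hSB hα h1 hS₀ Subtype.val_injective hB₀ xB hxB
      (RingHom.ker xB) rfl hunrB hinjB hf'
    refine ⟨v e * v ⟨bz, hbz⟩ ^ n, fun hmem' => ?_, ?_⟩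
    · have : x (algebraMap R₀ R (v e * v ⟨bz, hbz⟩ ^ n)) = 0 := (hmem _).mp hmem'
      rw [map_mul, map_pow, hv, hv, map_mul, map_pow] at this
      exact mul_ne_zero (fun h' => he h') (pow_ne_zero n hbzx) this
    · have hcomp : v.comp (algebraMap S₀ B₀) = algebraMap S₀ R₀ := RingHom.ext fun s => hR₀i (by
        rw [RingHom.comp_apply, hv, ← IsScalarTower.algebraMap_apply S₀ R₀ R, IsScalarTower.algebraMap_apply S₀ S R]
        rfl)
      have := Ideal.mem_map_of_mem v hef
      rw [Ideal.map_map, hcomp] at this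
      have e1 : v (e * ⟨⟨_, hn⟩, hfB⟩) = v e * v ⟨bz, hbz⟩ ^ n * f := hR₀i (by
        rw [hv, map_mul (algebraMap R₀ R), map_mul (algebraMap R₀ R), map_pow, hv, hv, mul_assoc]
        rfl)
      rw [e1] at this
      refine Ideal.map_mono (fun s hs => ?_) this
      show algebraMap R₀ R (algebraMap S₀ R₀ s) ∈ m
      rw [hmem, ← hcomp, RingHom.comp_apply, hv]
      exact hs

end Groth.Agent.LunaEt
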