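import Groth.Agent.LunaEt.Unram
import Groth.Agent.EquivZMT.Points
import Groth.Agent.EquivZMT.SubAlg
import Mathlib.RingTheory.ZariskisMainTheorem
import Mathlib.RingTheory.Unramified.LocalStructure

/-! # Separation of invariant ideals from closed orbits; finite models -/

set_option autoImplicit false
set_option maxHeartbeats 400000
universe u

open TensorProduct

namespace Groth.Agent.LunaEt

open ComodLib GLin

variable {k : Type u} [Field k] {A : Type u} [CommRing A] [HopfAlgebra k A]
  {S : Type u} [CommRing S] [Algebra k S] [HopfRep.Comod k A S] [GLin.IsCoactAlg k A S]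
  {R : Type u} [CommRing R] [Algebra k R] [HopfRep.Comod k A R] [GLin.IsCoactAlg k A R]
  [Algebra S R] [IsScalarTower k S R]

theorem actHom_mem_map {T : Type u} [CommRing T] (j : T →+* R) (hj : ∀ t, j t ∈ invariants k A R) (I : Ideal T)
    (g : A →ₐ[k] k) {r : R} (hr : r ∈ I.map j) : HopfRep.Comod.act k A R g r ∈ I.map j := by
  have hcomp : (actHom (R := R) g).comp j = j := RingHom.ext fun b => act_fixed (R := R) (hj b) g
  have := Ideal.mem_map_of_mem (actHom (R := R) g) hr
  rwa [Ideal.map_map, hcomp, actHom_apply] at this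

variable [IsAlgClosed k] [Algebra.FiniteType k A] [IsDomain A]

/-- An invariant ideal not vanishing identically on a closed orbit contains an invariant function not vanishing
on that orbit. -/
theorem exists_invariant_of_stable [Algebra.FiniteType k S] {α : A →ₗ[k] k} (hα : ComodLib.IsIntegral k α)
    (h1 : α 1 = 1) (y : S →ₐ[k] k) (hy : IsClosedOrbit k A y) (J : Ideal S)
    (hJ : ∀ (g : A →ₐ[k] k), ∀ a ∈ J, HopfRep.Comod.act k A S g a ∈ J) (hyJ : ¬ J ≤ RingHom.ker y) :
    ∃ f ∈ invariants k A S, f ∈ J ∧ y f ≠ 0 := by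
  let j : invariants k A S →+* S := (invariants k A S).val.toRingHom
  let q : Ideal (invariants k A S) := (RingHom.ker y).comap j
  have htop : J ⊔ q.map j = ⊤ := by
    refine eq_top_of_stable (S₀ := invariants k A S) hα h1 ?_ y hy _ ?_ ?_ (fun hle => hyJ (le_sup_left.trans hle))
    · exact Subalgebra.ext fun f => ⟨fun ⟨a, ha⟩ => ha ▸ a.2, fun hf => ⟨⟨f, hf⟩, rfl⟩⟩
    · intro g a ha
      obtain ⟨a₁, ha₁, a₂, ha₂, rfl⟩ := Submodule.mem_sup.mp ha
      rw [map_add]
      exact Submodule.add_mem_sup (hJ g a₁ ha₁) (actHom_mem_map j (fun t => t.2) q g ha₂)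
    · exact fun f hf => Ideal.mem_sup_right (Ideal.mem_map_of_mem j hf)
  obtain ⟨c, hc, t, ht, hct⟩ := Submodule.mem_sup.mp ((Ideal.eq_top_iff_one _).mp htop)
  haveI : _root_.IsReduced A := inferInstance
  have hsJ : HopfRep.IsSubcomod (k := k) (A := A) (J.restrictScalars k) :=
    isSubcomod_of_forall_act fun g v hv => hJ g v hv
  have hst : HopfRep.IsSubcomod (k := k) (A := A) ((q.map j).restrictScalars k) :=
    isSubcomod_of_forall_act fun g v hv => actHom_mem_map j (fun t => t.2) q g hv
  refine ⟨rey α c, rey_mem_fixedPts hα c, rey_mem_of_isSubcomod hsJ hc, ?_⟩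
  have h2 : y (rey α t) = 0 :=
    (Ideal.map_le_iff_le_comap.mpr le_rfl : q.map j ≤ RingHom.ker y) (rey_mem_of_isSubcomod hst ht)
  have h3 := congrArg (fun s => y (rey α s)) hct
  simp only [map_add, h2, add_zero,
    rey_of_fixed h1 (show (1 : S) ∈ HopfRep.fixedPts k A S from (invariants k A S).one_mem), map_one] at h3
  rw [h3]
  exact one_ne_zero

/-- An equivariant finite model: a stable subalgebra, finite over the base, equal to `R` after inverting some
function not vanishing at `m`. -/
theorem exists_finite_model [Algebra.FiniteType k S] [Algebra.FiniteType k R] (h : Equivariant k A S R)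
    (m : Ideal R) [m.IsPrime] [Algebra.WeaklyQuasiFiniteAt S m] :
    ∃ B : Subalgebra S R, Module.Finite S B ∧
      (∀ (g : A →ₐ[k] k), ∀ b ∈ B, HopfRep.Comod.act k A R g b ∈ B) ∧
      ∃ r ∈ B, r ∉ m ∧ ∀ t : R, ∃ n : ℕ, r ^ n * t ∈ B := by
  classical
  haveI : Algebra.FiniteType S R := Algebra.FiniteType.of_restrictScalars_finiteType k S R
  obtain ⟨S', hS', r, hr, hbij⟩ :=
    Algebra.QuasiFiniteAt.exists_fg_and_exists_notMem_and_awayMap_bijective (R := S) m
  obtain ⟨G, hG⟩ := id hS'
  haveI : Module.Finite S S' := Module.Finite.iff_fg.2 hS'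
  let C : Subalgebra S R := integralClosure S R
  have hC : ∀ (g : A →ₐ[k] k), ∀ c ∈ C, HopfRep.Comod.act k A R g c ∈ C := by
    intro g c hc
    obtain ⟨P, hP, hP0⟩ := hc
    refine ⟨P.map (actHom (R := S) g), hP.map _, ?_⟩
    have hcomm : (actHom (R := R) g).comp (algebraMap S R) = (algebraMap S R).comp (actHom (R := S) g) :=
      RingHom.ext fun s => (h.act g s).symm
    rw [Polynomial.eval₂_map, ← hcomm]
    show Polynomial.eval₂ _ (actHom (R := R) g c) P = 0
    rw [← Polynomial.hom_eval₂, hP0, map_zero]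
  obtain ⟨U₀, hU₀fin, hgU₀, hU₀⟩ := exists_finite_subcomod_le (k := k) (C := A) G.finite_toSet
  let U : Submodule k R := U₀ ⊓ (Subalgebra.toSubmodule C).restrictScalars k
  have hU : HopfRep.IsSubcomod (k := k) (A := A) U :=
    isSubcomod_inf hU₀ (isSubcomod_of_forall_act fun g v hv => hC g v hv)
  haveI : Module.Finite k U := Submodule.finiteDimensional_inf_left _ _
  obtain ⟨T, hT⟩ : U.FG := Module.Finite.iff_fg.1 inferInstance
  let B : Subalgebra S R := Algebra.adjoin S (T : Set R)
  have hTU : ∀ x ∈ T, x ∈ U := fun x hx => hT ▸ Submodule.subset_span hx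
  have hUB : ∀ x ∈ U, x ∈ B := by
    intro x hx
    rw [← hT] at hx
    exact (Submodule.span_le (p := (Subalgebra.toSubmodule B).restrictScalars k)).2 Algebra.subset_adjoin hx
  refine ⟨B, Module.Finite.iff_fg.2 (fg_adjoin_of_finite T.finite_toSet fun x hx => (hTU x hx).2), ?_, ?_⟩
  · intro g b hb
    rw [← actHom_apply]
    induction hb using Algebra.adjoin_induction with
    | mem x hx => exact hUB _ (subcomod_actF_mem hU g.toLinearMap (hTU x hx))
    | algebraMap s => rw [actHom_apply, ← h.act g s]; exact B.algebraMap_mem _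
    | add x y _ _ hx hy => rw [map_add]; exact add_mem hx hy
    | mul x y _ _ hx hy => rw [map_mul]; exact mul_mem hx hy
  have hSB : S' ≤ B := by
    intro x hx
    have hx' : x ∈ Submodule.span S (G : Set R) := hG.symm ▸ hx
    refine (Submodule.span_le (p := Subalgebra.toSubmodule B)).2 (fun y hy => hUB y ⟨hgU₀ hy, ?_⟩) hx'
    have hyS : y ∈ Subalgebra.toSubmodule S' := hG ▸ Submodule.subset_span hy
    exact (Algebra.IsIntegral.isIntegral (R := S) (⟨y, hyS⟩ : S')).map S'.val
  refine ⟨r, hSB r.2, hr, fun t => ?_⟩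
  obtain ⟨z, hz⟩ := hbij.2 (algebraMap R (Localization.Away (S'.val.toRingHom r)) t)
  obtain ⟨n, a, hna⟩ := IsLocalization.Away.surj r z
  have hmap : ∀ b : S', Localization.awayMap S'.val.toRingHom r (algebraMap S' (Localization.Away r) b) =
      algebraMap R (Localization.Away (S'.val.toRingHom r)) (b : R) := fun b => IsLocalization.map_eq _ b
  have h2 := congrArg (Localization.awayMap S'.val.toRingHom r) hna
  rw [map_mul, map_pow, hz, hmap, hmap, ← map_pow, ← map_mul] at h2
  obtain ⟨⟨_, j, rfl⟩, hj⟩ := (IsLocalization.eq_iff_exists (Submonoid.powers (S'.val.toRingHom r)) _).mp h2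
  refine ⟨j + n, ?_⟩
  have e : (r : R) ^ (j + n) * t = (r : R) ^ j * (a : R) := by
    have hj' : (r : R) ^ j * (a : R) = (r : R) ^ j * (t * (r : R) ^ n) := hj.symm
    rw [hj']; ring
  rw [e]
  exact mul_mem (pow_mem (hSB r.2) j) (hSB a.2)

end Groth.Agent.LunaEt
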