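import Groth.Agent.LunaEt.Model
import Mathlib.RingTheory.TensorProduct.Quotient
import Mathlib.RingTheory.Etale.Basic
import Mathlib.RingTheory.Etale.Locus

/-! # A surjection from a base changed étale algebra is an isomorphism near a closed orbit -/

set_option autoImplicit false
set_option maxHeartbeats 1000000
universe u

open TensorProduct

namespace Groth.Agent.LunaEt

open ComodLib GLin

/-- An element killing the kernel of a surjection transfers étaleness. -/
theorem etale_away_of_kills {S E T : Type u} [CommRing S] [CommRing E] [CommRing T] [Algebra S E] [Algebra S T]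
    [Algebra.Etale S E] (φ : E →ₐ[S] T) (hφ : Function.Surjective φ) (c : E) (hc : ∀ e, φ e = 0 → c * e = 0) :
    Algebra.Etale S (Localization.Away (φ c)) := by
  let ψ : Localization.Away c →ₐ[S] Localization.Away (φ c) := Localization.awayMapₐ φ c
  have hψ : Function.Bijective ψ := by
    refine ⟨(injective_iff_map_eq_zero _).2 fun z hz => ?_,
      IsLocalization.Away.mapₐ_surjective_of_surjective c hφ⟩
    obtain ⟨e, m, rfl⟩ := IsLocalization.exists_mk'_eq (Submonoid.powers c) z
    obtain ⟨_, ⟨j, rfl⟩, hj⟩ : ∃ d ∈ Submonoid.powers (φ c), d * φ e = 0 := by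
      simpa [ψ, Localization.awayMapₐ, IsLocalization.Away.mapₐ, IsLocalization.Away.map, IsLocalization.map_mk',
        IsLocalization.mk'_eq_zero_iff] using hz
    have h0 := hc (c ^ j * e) (by rw [map_mul, map_pow]; exact hj)
    exact (IsLocalization.mk'_eq_zero_iff _ _).2 ⟨⟨c ^ (j + 1), j + 1, rfl⟩, by
      show c ^ (j + 1) * e = 0
      rw [pow_succ', mul_assoc, h0]⟩
  haveI : Algebra.Etale E (Localization.Away c) := Algebra.Etale.of_isLocalizationAway c
  haveI : Algebra.Etale S (Localization.Away c) := Algebra.Etale.comp S E _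
  exact Algebra.Etale.of_equiv (AlgEquiv.ofBijective ψ hψ)

/-- The kernel of a surjection which is flat at a point is absorbed by the maximal ideal of that point. -/
theorem exists_kills_ker_of_flat {E T M F : Type u} [CommRing E] [IsNoetherianRing E] [CommRing T] [Field F]
    [CommRing M] [Algebra E M] [Module.Flat E M] (φ : E →+* T) (hker : ∀ e, φ e = 0 → algebraMap E M e = 0)
    (χ : M →+* F) (hsurj : Function.Surjective (χ.comp (algebraMap E M))) :
    ∃ v : E, χ (algebraMap E M v) ≠ 0 ∧ ∀ e, φ e = 0 → v * e = 0 := by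
  set K := RingHom.ker φ
  set xE := χ.comp (algebraMap E M) with hxE
  set n := RingHom.ker xE with hn
  letI : Algebra E F := xE.toAlgebra
  let e₀ : (E ⧸ n) ≃ₐ[E] F := Ideal.quotientKerAlgEquivOfSurjective (f := Algebra.ofId E F) hsurj
  let χ' : M →ₐ[E] F := { χ with commutes' := fun _ => rfl }
  have hle : K ≤ n • K := by
    intro z hz
    have h0 : (⟨z, hz⟩ : K) ⊗ₜ[E] (1 : M) = 0 := by
      refine Module.Flat.rTensor_preserves_injective_linearMap (M := M) K.subtype Subtype.val_injective ?_
      rw [LinearMap.rTensor_tmul, map_zero]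
      apply (TensorProduct.lid E M).injective
      rw [TensorProduct.lid_tmul, map_zero, Algebra.smul_def, mul_one]
      exact hker z hz
    have h1 := congrArg (fun t => TensorProduct.tensorQuotEquivQuotSMul K n
      ((e₀.symm.toLinearMap.comp χ'.toLinearMap).lTensor K t)) h0
    simp only [LinearMap.lTensor_tmul, map_zero, LinearMap.comp_apply, AlgHom.toLinearMap_apply, map_one,
      AlgEquiv.toLinearMap_apply] at h1
    rw [show (1 : E ⧸ n) = Ideal.Quotient.mk n 1 from rfl, TensorProduct.tensorQuotEquivQuotSMul_tmul_mk, one_smul,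
      Submodule.Quotient.mk_eq_zero] at h1
    have h2 := Submodule.mem_map_of_mem (f := K.subtype) h1
    rw [Submodule.map_smul'', Submodule.map_top, Submodule.range_subtype] at h2
    exact h2
  obtain ⟨v, hv, hvk⟩ :=
    Submodule.exists_sub_one_mem_and_smul_eq_zero_of_fg_of_le_smul n K (IsNoetherian.noetherian K) hle
  refine ⟨v, fun h => ?_, fun e he => hvk e he⟩
  rw [hn, RingHom.mem_ker, map_sub, map_one, sub_eq_zero] at hv
  exact one_ne_zero (hv.symm.trans h)

variable {k : Type u} [Field k] [IsAlgClosed k] {A : Type u} [CommRing A] [HopfAlgebra k A]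
  [Algebra.FiniteType k A] [IsDomain A]
  {S : Type u} [CommRing S] [Algebra k S] [HopfRep.Comod k A S] [GLin.IsCoactAlg k A S]
  {S₀ : Type u} [CommRing S₀] [Algebra k S₀] [Algebra S₀ S] [IsScalarTower k S₀ S]
  {E₀ : Type u} [CommRing E₀] [Algebra S₀ E₀]

/-- A point acts linearly over the invariants. -/
noncomputable def actAlg (hS : ∀ s₀ : S₀, algebraMap S₀ S s₀ ∈ invariants k A S) (g : A →ₐ[k] k) : S →ₐ[S₀] S :=
  { actHom g with commutes' := fun s₀ => act_fixed (R := S) (hS s₀) g }

omit [IsAlgClosed k] [Algebra.FiniteType k A] [IsDomain A] in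
theorem exists_reyS₀ {α : A →ₗ[k] k} (hα : ComodLib.IsIntegral k α) (h1 : α 1 = 1)
    (hS₀i : Function.Injective (algebraMap S₀ S))
    (hS₀ : (IsScalarTower.toAlgHom k S₀ S).range = invariants k A S) :
    ∃ ρ : S →ₗ[S₀] S₀, (∀ s, algebraMap S₀ S (ρ s) = rey α s) ∧ ρ 1 = 1 := by
  have hex : ∀ s : S, ∃ s₀ : S₀, algebraMap S₀ S s₀ = rey α s := fun s => by
    have : rey α s ∈ (IsScalarTower.toAlgHom k S₀ S).range := hS₀.symm ▸ rey_mem_fixedPts hα s
    exact this
  choose ρ hρ using hex
  refine ⟨{ toFun := ρ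
            map_add' := fun a b => hS₀i (by rw [hρ, map_add, map_add, hρ, hρ])
            map_smul' := fun c a => hS₀i (by
              rw [hρ, RingHom.id_apply, smul_eq_mul, map_mul, hρ, Algebra.smul_def, mul_comm,
                rey_mul_invariant a (hS₀ ▸ ⟨c, rfl⟩ : algebraMap S₀ S c ∈ invariants k A S), mul_comm]) },
    hρ, hS₀i ?_⟩
  show algebraMap S₀ S (ρ 1) = _
  rw [hρ, rey_of_fixed h1 (show (1 : S) ∈ HopfRep.fixedPts k A S from (invariants k A S).one_mem), map_one]

/-- The average of an element of `S ⊗ E₀` has the common value of the translates. -/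
theorem map_average {α : A →ₗ[k] k} (h1 : α 1 = 1) (hS : ∀ s₀ : S₀, algebraMap S₀ S s₀ ∈ invariants k A S)
    (ρ : S →ₗ[S₀] S₀) (hρ : ∀ s, algebraMap S₀ S (ρ s) = rey α s) {M : Type u} [AddCommGroup M] [Module k M]
    (Λ : S ⊗[S₀] E₀ →ₗ[k] M) (z : S ⊗[S₀] E₀) (v : M)
    (h : ∀ g : A →ₐ[k] k, Λ (Algebra.TensorProduct.map (actAlg hS g) (AlgHom.id S₀ E₀) z) = v) :
    Λ ((1 : S) ⊗ₜ[S₀] TensorProduct.lid S₀ E₀ (ρ.rTensor E₀ z)) = v := by
  classical
  obtain ⟨F, hF⟩ := TensorProduct.exists_finset z
  let T : Finset A := insert 1 (F.biUnion fun i =>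
    ((TensorProduct.exists_finset (HopfRep.Comod.coact (k := k) (A := A) i.1)).choose).image Prod.snd)
  let W : Submodule k A := Submodule.span k (T : Set A)
  haveI : FiniteDimensional k W := FiniteDimensional.span_finset k T
  obtain ⟨β, hβ, hag⟩ := EquivZMT.exists_comb_points W (α ∘ₗ HopfAlgebra.antipode k)
  let L : (A →ₗ[k] k) →ₗ[k] M :=
    { toFun := fun β => Λ (∑ i ∈ F, actF β i.1 ⊗ₜ[S₀] i.2)
      map_add' := fun a b => by
        simp only [actF_add, LinearMap.add_apply, TensorProduct.add_tmul, Finset.sum_add_distrib, map_add]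
      map_smul' := fun c a => by
        simp only [actF_smul, LinearMap.smul_apply, ← TensorProduct.smul_tmul', ← Finset.smul_sum, map_smul,
          RingHom.id_apply] }
  have hspan : L β = β 1 • v := by
    clear hag
    induction hβ using Submodule.span_induction with
    | mem φ hφ =>
      obtain ⟨g, rfl⟩ := hφ
      rw [show g.toLinearMap (1 : A) = 1 from map_one g, one_smul]
      refine Eq.trans ?_ (h g)
      show Λ _ = Λ _
      congr 1
      rw [hF, map_sum]
      rfl
    | zero => rw [map_zero, LinearMap.zero_apply, zero_smul]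
    | add a b _ _ ha hb => rw [map_add, ha, hb, LinearMap.add_apply, add_smul]
    | smul c a _ ha => rw [map_smul, ha, LinearMap.smul_apply, smul_assoc]
  have hW : ∀ a ∈ T, a ∈ W := fun a ha => Submodule.subset_span ha
  have heq : L β = Λ ((1 : S) ⊗ₜ[S₀] TensorProduct.lid S₀ E₀ (ρ.rTensor E₀ z)) := by
    show Λ _ = Λ _
    congr 1
    conv_rhs => rw [hF, map_sum, map_sum, TensorProduct.tmul_sum]
    refine Finset.sum_congr rfl fun i hi => ?_
    rw [LinearMap.rTensor_tmul, TensorProduct.lid_tmul, ← TensorProduct.smul_tmul, ← Algebra.algebraMap_eq_smul_one,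
      hρ]
    congr 1
    rw [rey, actF_apply, actF_apply,
      (TensorProduct.exists_finset (HopfRep.Comod.coact (k := k) (A := A) i.1)).choose_spec, map_sum, map_sum]
    refine Finset.sum_congr rfl fun j hj => ?_
    rw [slice_tmul, slice_tmul, hag _ (hW _ (Finset.mem_insert_of_mem
      (Finset.mem_biUnion.2 ⟨i, hi, Finset.mem_image_of_mem _ hj⟩)))]
  rw [← heq, hspan, hag 1 (hW 1 (Finset.mem_insert_self _ _)), LinearMap.comp_apply, HopfAlgebra.antipode_one, h1,
    one_smul]

variable {R : Type u} [CommRing R] [Algebra k R] [HopfRep.Comod k A R] [GLin.IsCoactAlg k A R]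
  [Algebra S R] [IsScalarTower k S R]
  {R₀ : Type u} [CommRing R₀] [Algebra k R₀] [Algebra R₀ R] [IsScalarTower k R₀ R]
  [Algebra S₀ R₀] [Algebra S₀ R] [IsScalarTower S₀ S R] [IsScalarTower S₀ R₀ R]

instance isScalarTower_away (f : R) : IsScalarTower S₀ S (Localization.Away f) :=
  IsScalarTower.of_algebraMap_eq fun s => by
    rw [IsScalarTower.algebraMap_apply S₀ R (Localization.Away f), IsScalarTower.algebraMap_apply S₀ S R,
      ← IsScalarTower.algebraMap_apply S R (Localization.Away f)]

variable (R) in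
/-- `(R₀)_f → R_f` over `S₀`. -/
noncomputable def awayInv (f : R₀) : Localization.Away f →ₐ[S₀] Localization.Away (algebraMap R₀ R f) :=
  { Localization.awayMap (algebraMap R₀ R) f with
    commutes' := fun s => by
      show Localization.awayMap (algebraMap R₀ R) f (algebraMap S₀ (Localization.Away f) s) = _
      rw [IsScalarTower.algebraMap_apply S₀ R₀ (Localization.Away f), Localization.awayMap, IsLocalization.Away.map,
        IsLocalization.map_eq, ← IsScalarTower.algebraMap_apply S₀ R₀ R, ← IsScalarTower.algebraMap_apply] }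

variable (S R) in
/-- The map `S ⊗ E₀ → R_f` induced by `E₀ → (R₀)_f`. -/
noncomputable def sliceMap (f : R₀) (φ₀ : E₀ →ₐ[S₀] Localization.Away f) :
    S ⊗[S₀] E₀ →ₐ[S] Localization.Away (algebraMap R₀ R f) :=
  Algebra.TensorProduct.lift (Algebra.ofId S _)
    ((awayInv R f).comp φ₀) fun _ _ => .all _ _

theorem sliceMap_tmul (f : R₀) (φ₀ : E₀ →ₐ[S₀] Localization.Away f) (s : S) (e : E₀) :
    sliceMap S R f φ₀ (s ⊗ₜ e) = algebraMap S _ s *
      Localization.awayMap (algebraMap R₀ R) f (φ₀ e) :=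
  Algebra.TensorProduct.lift_tmul _ _ _ _ _

theorem sliceMap_surjective (hR₀ : (IsScalarTower.toAlgHom k R₀ R).range = invariants k A R) (f f₁ : R₀)
    (hdvd : f₁ ∣ f)
    (hW : ∀ t : R, ∃ n : ℕ, algebraMap R₀ R f₁ ^ n * t ∈ Algebra.adjoin S (invariants k A R : Set R))
    (φ₀ : E₀ →ₐ[S₀] Localization.Away f) (hφ₀ : Function.Surjective φ₀) :
    Function.Surjective (sliceMap S R f φ₀) := by
  set RF := Localization.Away (algebraMap R₀ R f)
  set φ := sliceMap S R f φ₀
  intro z
  have hmap : ∀ r : R₀, Localization.awayMap (algebraMap R₀ R) f (algebraMap R₀ (Localization.Away f) r) =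
      algebraMap R RF (algebraMap R₀ R r) := fun r => IsLocalization.map_eq _ r
  have hinv : ∀ r₀ : Localization.Away f, Localization.awayMap (algebraMap R₀ R) f r₀ ∈ φ.range := fun r₀ => by
    obtain ⟨e, rfl⟩ := hφ₀ r₀
    exact ⟨(1 : S) ⊗ₜ e, (sliceMap_tmul f φ₀ 1 e).trans (by rw [map_one, one_mul])⟩
  have hWr : ∀ w ∈ Algebra.adjoin S (invariants k A R : Set R), algebraMap R RF w ∈ φ.range := by
    intro w hw
    induction hw using Algebra.adjoin_induction with
    | mem w hw =>
      obtain ⟨w₀, rfl⟩ : w ∈ (IsScalarTower.toAlgHom k R₀ R).range := hR₀.symm ▸ hw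
      show algebraMap R RF (algebraMap R₀ R w₀) ∈ φ.range
      rw [← hmap]
      exact hinv _
    | algebraMap s => rw [← IsScalarTower.algebraMap_apply]; exact φ.range.algebraMap_mem s
    | add a b _ _ ha hb => rw [map_add]; exact add_mem ha hb
    | mul a b _ _ ha hb => rw [map_mul]; exact mul_mem ha hb
  obtain ⟨t, ⟨_, m, rfl⟩, hz⟩ := IsLocalization.exists_mk'_eq (Submonoid.powers (algebraMap R₀ R f)) z
  obtain ⟨n, hn⟩ := hW t
  obtain ⟨d, hd⟩ := hdvd
  let fF : Localization.Away f := IsLocalization.mk' _ (d ^ n) (⟨f ^ (n + m), n + m, rfl⟩ : Submonoid.powers f)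
  have key : Localization.awayMap (algebraMap R₀ R) f fF * algebraMap R RF (algebraMap R₀ R f₁ ^ n * t) =
      IsLocalization.mk' RF t (⟨algebraMap R₀ R f ^ m, m, rfl⟩ : Submonoid.powers (algebraMap R₀ R f)) := by
    simp only [fF, Localization.awayMap, IsLocalization.Away.map, IsLocalization.map_mk']
    rw [IsLocalization.eq_mk'_iff_mul_eq, mul_assoc, ← map_mul, mul_comm, IsLocalization.mul_mk'_eq_mk'_of_mul,
      IsLocalization.mk'_eq_iff_eq_mul, ← map_mul, hd]
    simp only [map_mul, map_pow]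
    ring
  have hfin := φ.range.mul_mem (hinv fF) (hWr _ hn)
  rw [key] at hfin
  obtain ⟨e, he⟩ := hfin
  exact ⟨e, he.trans hz⟩

/-- The main step: some invariant function, non-zero at `x`, kills the kernel. -/
theorem exists_average_kills [Algebra.FiniteType k S] [Algebra.FiniteType k R] [Algebra.Etale S₀ E₀]
    (h : Equivariant k A S R) {α : A →ₗ[k] k} (hα : ComodLib.IsIntegral k α) (h1 : α 1 = 1)
    (hS₀i : Function.Injective (algebraMap S₀ S))
    (hS₀ : (IsScalarTower.toAlgHom k S₀ S).range = invariants k A S)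
    (hR₀i : Function.Injective (algebraMap R₀ R))
    (hR₀ : (IsScalarTower.toAlgHom k R₀ R).range = invariants k A R)
    (x : R →ₐ[k] k) (hx : IsClosedOrbit k A x) (m : Ideal R) [m.IsMaximal] (hm : m = RingHom.ker x.toRingHom)
    (het : Algebra.IsEtaleAt S m)
    (f : R₀) (hf : x (algebraMap R₀ R f) ≠ 0) (φ₀ : E₀ →ₐ[S₀] Localization.Away f)
    (hφ : Function.Surjective (sliceMap S R f φ₀)) :
    ∃ (c : E₀) (b : R₀), x (algebraMap R₀ R b) ≠ 0 ∧ φ₀ c = algebraMap R₀ (Localization.Away f) b ∧
      (∀ z, sliceMap S R f φ₀ z = 0 → ((1 : S) ⊗ₜ[S₀] c) * z = 0) ∧ ∀ e, φ₀ e = 0 → c * e = 0 := by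
  classical
  haveI : IsNoetherianRing S := Algebra.FiniteType.isNoetherianRing k S
  haveI : Algebra.Etale S (S ⊗[S₀] E₀) := Algebra.Etale.baseChange (R := S₀) (A := E₀) S
  haveI : IsNoetherianRing (S ⊗[S₀] E₀) := Algebra.FiniteType.isNoetherianRing S _
  haveI : Algebra.FiniteType S R := Algebra.FiniteType.of_restrictScalars_finiteType k S R
  haveI : Algebra.FinitePresentation S R := Algebra.FinitePresentation.of_finiteType.mp inferInstance
  set RF := Localization.Away (algebraMap R₀ R f)
  set φ := sliceMap S R f φ₀ with hφdef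
  have hmem : ∀ r : R, r ∈ m ↔ x r = 0 := fun r => hm ▸ RingHom.mem_ker
  let xF : RF →+* k := IsLocalization.Away.lift (algebraMap R₀ R f) (g := x.toRingHom) hf.isUnit
  have hxF : ∀ r, xF (algebraMap R RF r) = x r := fun r => IsLocalization.Away.lift_eq _ _ r
  -- a flat neighbourhood
  obtain ⟨r, hr, hret⟩ := Algebra.exists_etale_of_isEtaleAt (R := S) m
  let M := Localization.Away (algebraMap R RF r)
  letI : Algebra (S ⊗[S₀] E₀) M := ((algebraMap RF M).comp φ.toRingHom).toAlgebra
  haveI : IsScalarTower S (S ⊗[S₀] E₀) M := IsScalarTower.of_algebraMap_eq' (by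
    ext s
    show _ = algebraMap RF M (φ (algebraMap S _ s))
    rw [AlgHom.commutes, ← IsScalarTower.algebraMap_apply])
  haveI : IsLocalization.Away (algebraMap R₀ R f * r) M := IsLocalization.Away.mul' RF M _ _
  haveI : Algebra.Etale S M := by
    haveI := hret
    let M' := Localization.Away (algebraMap R (Localization.Away r) (algebraMap R₀ R f))
    haveI : IsLocalization.Away (algebraMap R₀ R f * r) M' := IsLocalization.Away.mul (Localization.Away r) M' _ _
    haveI : Algebra.Etale (Localization.Away r) M' := Algebra.Etale.of_isLocalizationAway (algebraMap R _ (algebraMap R₀ R f))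
    haveI : Algebra.Etale S M' := Algebra.Etale.comp S (Localization.Away r) _
    exact Algebra.Etale.of_equiv ((IsLocalization.algEquiv (Submonoid.powers (algebraMap R₀ R f * r)) M' M).restrictScalars S)
  haveI : Algebra.Etale (S ⊗[S₀] E₀) M := Algebra.Etale.of_restrictScalars S _ _
  let xM : M →+* k := IsLocalization.Away.lift (algebraMap R RF r) (g := xF)
    (by rw [hxF]; exact Ne.isUnit (fun h' => hr ((hmem r).mpr h')))
  have hxM : ∀ z, xM (algebraMap (S ⊗[S₀] E₀) M z) = xF (φ z) := fun z => IsLocalization.Away.lift_eq _ _ (φ z)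
  obtain ⟨v, hv, hvk⟩ := exists_kills_ker_of_flat φ.toRingHom
    (fun e he => by
      show algebraMap RF M (φ e) = 0
      rw [show φ e = 0 from he, map_zero])
    xM (fun a => by
      obtain ⟨w, hw⟩ := hφ (algebraMap k RF a)
      refine ⟨w, ?_⟩
      rw [RingHom.comp_apply, hxM, hw, IsScalarTower.algebraMap_apply k R RF, hxF, AlgHom.commutes,
        Algebra.algebraMap_self_apply])
  rw [hxM] at hv
  -- translation on both sides
  have hS : ∀ s₀ : S₀, algebraMap S₀ S s₀ ∈ invariants k A S := fun s₀ => hS₀ ▸ ⟨s₀, rfl⟩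
  have hR : ∀ r₀ : R₀, algebraMap R₀ R r₀ ∈ invariants k A R := fun r₀ => hR₀ ▸ ⟨r₀, rfl⟩
  let gR : (A →ₐ[k] k) → (RF →+* RF) := fun g => IsLocalization.Away.lift (algebraMap R₀ R f)
    (g := (algebraMap R RF).comp (actHom g)) (by
      rw [RingHom.comp_apply, actHom_apply, act_fixed (R := R) (hR f) g]
      exact IsLocalization.Away.algebraMap_isUnit _)
  have hgR : ∀ g r, gR g (algebraMap R RF r) = algebraMap R RF (HopfRep.Comod.act k A R g r) :=
    fun g r => IsLocalization.Away.lift_eq _ _ r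
  have hfix : ∀ g (r₀ : Localization.Away f),
      gR g (Localization.awayMap (algebraMap R₀ R) f r₀) = Localization.awayMap (algebraMap R₀ R) f r₀ := fun g => by
    refine RingHom.congr_fun (f := (gR g).comp (Localization.awayMap (algebraMap R₀ R) f)) ?_
    refine IsLocalization.ringHom_ext (Submonoid.powers f) (RingHom.ext fun a => ?_)
    simp only [RingHom.comp_apply, Localization.awayMap, IsLocalization.Away.map, IsLocalization.map_eq]
    rw [hgR, act_fixed (R := R) (hR a) g]
  have hequ : ∀ g z, φ (Algebra.TensorProduct.map (actAlg hS g) (AlgHom.id S₀ E₀) z) = gR g (φ z) := by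
    intro g z
    induction z using TensorProduct.induction_on with
    | zero => simp
    | add a b ha hb => simp only [map_add, ha, hb]
    | tmul s e =>
      rw [Algebra.TensorProduct.map_tmul, hφdef, sliceMap_tmul, sliceMap_tmul, map_mul, AlgHom.id_apply, hfix,
        IsScalarTower.algebraMap_apply S R RF, IsScalarTower.algebraMap_apply S R RF, hgR, ← h.act g s]
      rfl
  -- the annihilator, seen on `R`
  let J : Ideal R :=
    { carrier := {t | ∃ w, φ w = algebraMap R RF t ∧ ∀ e, φ e = 0 → w * e = 0}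
      zero_mem' := ⟨0, by simp, fun e _ => zero_mul e⟩
      add_mem' := by
        rintro a b ⟨w, hw, hwk⟩ ⟨w', hw', hwk'⟩
        exact ⟨w + w', by rw [map_add, hw, hw', map_add], fun e he => by rw [add_mul, hwk e he, hwk' e he, add_zero]⟩
      smul_mem' := by
        rintro c a ⟨w, hw, hwk⟩
        obtain ⟨u, hu⟩ := hφ (algebraMap R RF c)
        exact ⟨u * w, by rw [map_mul, hu, hw, smul_eq_mul, map_mul], fun e he => by rw [mul_assoc, hwk e he, mul_zero]⟩ }
  have hmove : ∀ g w, (∀ e, φ e = 0 → w * e = 0) →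
      ∀ e, φ e = 0 → Algebra.TensorProduct.map (actAlg hS g) (AlgHom.id S₀ E₀) w * e = 0 := by
    intro g w hwk e he
    set gi := (WithConv.toConv g)⁻¹.ofConv
    have hinv : ∀ z, Algebra.TensorProduct.map (actAlg hS g) (AlgHom.id S₀ E₀)
        (Algebra.TensorProduct.map (actAlg hS gi) (AlgHom.id S₀ E₀) z) = z := fun z => by
      induction z using TensorProduct.induction_on with
      | zero => simp
      | add a b ha hb => simp only [map_add, ha, hb]
      | tmul s e' =>
        rw [Algebra.TensorProduct.map_tmul, Algebra.TensorProduct.map_tmul, AlgHom.id_apply, AlgHom.id_apply]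
        exact congrArg (· ⊗ₜ[S₀] e') (act_inv_act g s)
    rw [← hinv e, ← map_mul, hwk _ (by rw [hequ, he, map_zero]), map_zero]
  have hJ : ∀ g : A →ₐ[k] k, ∀ t ∈ J, HopfRep.Comod.act k A R g t ∈ J := by
    rintro g t ⟨w, hw, hwk⟩
    exact ⟨_, by rw [hequ, hw, hgR], hmove g w hwk⟩
  have hJx : ¬ J ≤ RingHom.ker x := by
    intro hle
    obtain ⟨t, ⟨_, N, rfl⟩, hts⟩ := IsLocalization.exists_mk'_eq (Submonoid.powers (algebraMap R₀ R f)) (φ v)
    obtain ⟨u, hu⟩ := hφ (algebraMap R RF (algebraMap R₀ R f ^ N))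
    have h3 : φ (u * v) = algebraMap R RF t := by
      rw [map_mul, hu, ← hts]
      exact IsLocalization.mk'_spec' RF t (⟨_, N, rfl⟩ : Submonoid.powers (algebraMap R₀ R f))
    have hxt : x t = 0 := hle ⟨_, h3, fun e he => by rw [mul_assoc, hvk e he, mul_zero]⟩
    have h4 := congrArg xF h3
    rw [hxF, hxt, map_mul, map_mul, hu, hxF, map_pow] at h4
    exact mul_ne_zero (pow_ne_zero N hf) hv h4
  obtain ⟨b', hb', ⟨w, hw, hwk⟩, hxb⟩ := exists_invariant_of_stable hα h1 x hx J hJ hJx
  obtain ⟨b, rfl⟩ : b' ∈ (IsScalarTower.toAlgHom k R₀ R).range := hR₀.symm ▸ hb'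
  obtain ⟨ρ, hρ, hρ1⟩ := exists_reyS₀ hα h1 hS₀i hS₀
  let c := TensorProduct.lid S₀ E₀ (ρ.rTensor E₀ w)
  refine ⟨c, b, hxb, ?_, ?_, ?_⟩
  · have hval := map_average h1 hS ρ hρ ((φ.toLinearMap).restrictScalars k) w (algebraMap R RF (algebraMap R₀ R b))
      fun g => (hequ g w).trans (by rw [hw, hgR]; exact congrArg _ (act_fixed (R := R) (hR b) g))
    have hval' : φ ((1 : S) ⊗ₜ[S₀] c) = algebraMap R RF (algebraMap R₀ R b) := hval
    rw [hφdef, sliceMap_tmul, map_one, one_mul] at hval'
    have hinjF : Function.Injective (Localization.awayMap (algebraMap R₀ R) f) :=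
      IsLocalization.map_injective_of_injective _ _ _ hR₀i
    refine hinjF (hval'.trans ?_)
    exact (IsLocalization.map_eq _ b).symm
  · intro z hz
    exact map_average h1 hS ρ hρ (LinearMap.mulRight k z) w 0 fun g => hmove g w hwk z hz
  · intro e he
    have h0 : ((1 : S) ⊗ₜ[S₀] c) * ((1 : S) ⊗ₜ[S₀] e) = 0 :=
      map_average h1 hS ρ hρ (LinearMap.mulRight k ((1 : S) ⊗ₜ[S₀] e)) w 0 fun g =>
        hmove g w hwk _ (by rw [hφdef, sliceMap_tmul, he, map_zero, mul_zero])
    rw [Algebra.TensorProduct.tmul_mul_tmul, one_mul] at h0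
    have := congrArg (fun t => TensorProduct.lid S₀ E₀ (ρ.rTensor E₀ t)) h0
    simpa [LinearMap.rTensor_tmul, hρ1] using this

end Groth.Agent.LunaEt
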