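import Groth.Agent.LunaEt.Slice
import Mathlib.RingTheory.Spectrum.Prime.Chevalley
import Mathlib.RingTheory.LocalRing.ResidueField.Instances
import Mathlib.RingTheory.Flat.FaithfullyFlat.Algebra

/-! # Strongly étale neighbourhoods -/

set_option autoImplicit false
set_option maxHeartbeats 1000000
universe u

open TensorProduct

namespace Groth.Agent.LunaEt

open ComodLib GLin

variable {k : Type u} [Field k] [IsAlgClosed k] [CharZero k] {A : Type u} [CommRing A] [HopfAlgebra k A]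
  [Algebra.FiniteType k A] [IsDomain A]
  {S : Type u} [CommRing S] [Algebra k S] [HopfRep.Comod k A S] [GLin.IsCoactAlg k A S]
  {R : Type u} [CommRing R] [Algebra k R] [HopfRep.Comod k A R] [GLin.IsCoactAlg k A R]
  [Algebra S R] [IsScalarTower k S R]
  {S₀ : Type u} [CommRing S₀] [Algebra k S₀] [Algebra S₀ S] [IsScalarTower k S₀ S]
  {R₀ : Type u} [CommRing R₀] [Algebra k R₀] [Algebra R₀ R] [IsScalarTower k R₀ R]
  [Algebra S₀ R₀] [Algebra S₀ R] [IsScalarTower S₀ S R] [IsScalarTower S₀ R₀ R]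
  {E₀ : Type u} [CommRing E₀] [Algebra S₀ E₀]

omit [IsAlgClosed k] [CharZero k] [Algebra.FiniteType k A] [IsDomain A] in
theorem finiteType_invariants [Algebra.FiniteType k R] {α : A →ₗ[k] k} (hα : ComodLib.IsIntegral k α) (h1 : α 1 = 1)
    (hR₀i : Function.Injective (algebraMap R₀ R))
    (hR₀ : (IsScalarTower.toAlgHom k R₀ R).range = invariants k A R) : Algebra.FiniteType k R₀ := by
  obtain ⟨s, hs⟩ := exists_finset_invariants_adjoin (α := α) (C := R) hα h1
  haveI : Algebra.FiniteType k (invariants k A R) :=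
    (Subalgebra.fg_iff_finiteType _).mp (hs.symm ▸ Subalgebra.fg_adjoin_finset s)
  exact Algebra.FiniteType.equiv inferInstance
    ((AlgEquiv.ofInjective (IsScalarTower.toAlgHom k R₀ R) hR₀i).trans (Subalgebra.equivOfEq _ _ hR₀)).symm

omit [IsAlgClosed k] [CharZero k] [Algebra.FiniteType k A] [IsDomain A] [Algebra k S₀] [Algebra k R₀] [IsScalarTower k S₀ S] [IsScalarTower k R₀ R] [GLin.IsCoactAlg k A S] [GLin.IsCoactAlg k A R] [HopfRep.Comod k A S] [HopfRep.Comod k A R] [Algebra k S] [Algebra k R] [IsScalarTower k S R] in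
/-- Maps out of `R_f` into a domain from compatible maps out of `S` and `(R₀)_f`. -/
theorem exists_descend {L : Type u} [CommRing L] [IsDomain L] (f : R₀) (φ₀ : E₀ →ₐ[S₀] Localization.Away f)
    (hφ₀ : Function.Surjective φ₀) (hφ : Function.Surjective (sliceMap S R f φ₀)) (c : E₀)
    (hK : ∀ z, sliceMap S R f φ₀ z = 0 → ((1 : S) ⊗ₜ[S₀] c) * z = 0)
    (a : S →+* L) (β : Localization.Away f →+* L)
    (hcompat : β.comp (algebraMap S₀ (Localization.Away f)) = a.comp (algebraMap S₀ S)) (hc : β (φ₀ c) ≠ 0) :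
    ∃ ψ : R →+* L, (∀ s, ψ (algebraMap S R s) = a s) ∧
      ∀ r, ψ (algebraMap R₀ R r) = β (algebraMap R₀ (Localization.Away f) r) := by
  letI : Algebra S₀ L := (a.comp (algebraMap S₀ S)).toAlgebra
  let aA : S →ₐ[S₀] L := { a with commutes' := fun _ => rfl }
  let bA : E₀ →ₐ[S₀] L :=
    { β.comp φ₀.toRingHom with
      commutes' := fun s₀ => by
        show β (φ₀ (algebraMap S₀ E₀ s₀)) = _
        rw [AlgHom.commutes]
        exact RingHom.congr_fun hcompat s₀ }
  let w : S ⊗[S₀] E₀ →+* L := (Algebra.TensorProduct.productMap aA bA).toRingHom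
  have hw : ∀ s e, w (s ⊗ₜ e) = a s * β (φ₀ e) := fun s e => Algebra.TensorProduct.productMap_apply_tmul _ _ _ _
  have hker : RingHom.ker (sliceMap S R f φ₀).toRingHom ≤ RingHom.ker w := by
    intro z hz
    have := congrArg w (hK z hz)
    rw [map_mul, hw, map_one, one_mul, map_zero] at this
    exact (mul_eq_zero.mp this).resolve_left hc
  let ψ' := RingHom.liftOfSurjective (sliceMap S R f φ₀).toRingHom hφ ⟨w, hker⟩
  have hψ' : ∀ z, ψ' (sliceMap S R f φ₀ z) = w z := fun z =>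
    RingHom.liftOfRightInverse_comp_apply _ _ _ _ z
  refine ⟨ψ'.comp (algebraMap R _), fun s => ?_, fun r => ?_⟩
  · have h := hψ' (s ⊗ₜ 1)
    rw [sliceMap_tmul, map_one, map_one, mul_one, hw, map_one, map_one, mul_one] at h
    rw [RingHom.comp_apply, ← IsScalarTower.algebraMap_apply, h]
  · obtain ⟨e, he⟩ := hφ₀ (algebraMap R₀ (Localization.Away f) r)
    have h := hψ' (1 ⊗ₜ e)
    rw [sliceMap_tmul, map_one, one_mul, hw, map_one, one_mul, he] at h
    rw [RingHom.comp_apply, ← h]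
    exact congrArg ψ' (IsLocalization.map_eq _ r).symm

/-- Two primes with the same contraction are the kernels of compatible maps to a field. -/
theorem exists_common_field {C B D : Type u} [CommRing C] [CommRing B] [CommRing D] [Algebra C B] [Algebra C D]
    (P : Ideal B) [P.IsPrime] (Q : Ideal D) [Q.IsPrime]
    (hPQ : P.comap (algebraMap C B) = Q.comap (algebraMap C D)) :
    ∃ (L : Type u) (_ : CommRing L) (_ : IsDomain L) (a : B →+* L) (b : D →+* L),
      a.comp (algebraMap C B) = b.comp (algebraMap C D) ∧ RingHom.ker a = P ∧ RingHom.ker b = Q := by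
  let P₀ := P.comap (algebraMap C B)
  haveI : P.LiesOver P₀ := ⟨rfl⟩
  haveI : Q.LiesOver P₀ := ⟨hPQ⟩
  let := Localization.AtPrime.algebraOfLiesOver P₀ P
  let := Localization.AtPrime.algebraOfLiesOver P₀ Q
  let T := P.ResidueField ⊗[P₀.ResidueField] Q.ResidueField
  obtain ⟨M, hM⟩ := Ideal.exists_maximal T
  let π : T →+* T ⧸ M := Ideal.Quotient.mk M
  let iP : P.ResidueField →+* T ⧸ M := π.comp Algebra.TensorProduct.includeLeftRingHom
  let iQ : Q.ResidueField →+* T ⧸ M := π.comp (Algebra.TensorProduct.includeRight (R := P₀.ResidueField)).toRingHom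
  haveI : Nontrivial (T ⧸ M) := Ideal.Quotient.nontrivial_iff.mpr hM.ne_top
  refine ⟨T ⧸ M, inferInstance, Ideal.Quotient.isDomain M, iP.comp (algebraMap B _), iQ.comp (algebraMap D _), ?_, ?_, ?_⟩
  · have key : iP.comp (algebraMap P₀.ResidueField P.ResidueField) =
        iQ.comp (algebraMap P₀.ResidueField Q.ResidueField) := RingHom.ext fun t => congrArg π (by
      rw [Algebra.TensorProduct.includeLeftRingHom_apply]
      exact ((Algebra.TensorProduct.algebraMap_apply t).symm.trans (Algebra.TensorProduct.algebraMap_apply' t)))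
    refine RingHom.ext fun t => ?_
    show iP (algebraMap B P.ResidueField (algebraMap C B t)) = iQ (algebraMap D Q.ResidueField (algebraMap C D t))
    rw [← IsScalarTower.algebraMap_apply C B P.ResidueField, ← IsScalarTower.algebraMap_apply C D Q.ResidueField,
      IsScalarTower.algebraMap_apply C P₀.ResidueField P.ResidueField,
      IsScalarTower.algebraMap_apply C P₀.ResidueField Q.ResidueField]
    exact RingHom.congr_fun key _
  · rw [← RingHom.comap_ker, (RingHom.injective_iff_ker_eq_bot iP).mp iP.injective, ← RingHom.ker_eq_comap_bot,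
      Ideal.ker_algebraMap_residueField]
  · rw [← RingHom.comap_ker, (RingHom.injective_iff_ker_eq_bot iQ).mp iQ.injective, ← RingHom.ker_eq_comap_bot,
      Ideal.ker_algebraMap_residueField]

theorem exists_prime_over (f : R₀) (φ₀ : E₀ →ₐ[S₀] Localization.Away f)
    (hφ₀ : Function.Surjective φ₀) (hφ : Function.Surjective (sliceMap S R f φ₀)) (c : E₀) (b : R₀)
    (hcb : φ₀ c = algebraMap R₀ _ b)
    (hK : ∀ z, sliceMap S R f φ₀ z = 0 → ((1 : S) ⊗ₜ[S₀] c) * z = 0) (g : S₀)
    (hgsub : (PrimeSpectrum.basicOpen g : Set (PrimeSpectrum S₀)) ⊆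
      Set.range (PrimeSpectrum.comap (algebraMap S₀ (Localization.Away (f * b))))) :
    ∀ P : Ideal S, P.IsPrime → algebraMap S₀ S g ∉ P →
      ∃ Q : Ideal R, Q.IsPrime ∧ algebraMap R₀ R (f * b * algebraMap S₀ R₀ g) ∉ Q ∧ Q.comap (algebraMap S R) = P := by
  intro P' hP' hgP'
  obtain ⟨q₁, hq₁⟩ := hgsub (show (⟨P'.comap (algebraMap S₀ S), inferInstance⟩ : PrimeSpectrum S₀) ∈
    PrimeSpectrum.basicOpen g from hgP')
  set q' := q₁.asIdeal.comap (algebraMap R₀ (Localization.Away (f * b))) with hq'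
  have hq₁' : P'.comap (algebraMap S₀ S) = q'.comap (algebraMap S₀ R₀) := by
    rw [hq', Ideal.comap_comap, ← IsScalarTower.algebraMap_eq]
    exact (congrArg PrimeSpectrum.asIdeal hq₁).symm
  have hfb : f * b ∉ q' := fun h' =>
    q₁.isPrime.ne_top (Ideal.eq_top_of_isUnit_mem _ h' (IsLocalization.Away.algebraMap_isUnit (f * b)))
  have hgq : algebraMap S₀ R₀ g ∉ q' := fun h' => hgP' (show g ∈ P'.comap (algebraMap S₀ S) from hq₁' ▸ h')
  obtain ⟨L, _, _, a, b', hab, hka, hkb⟩ := exists_common_field P' q' hq₁'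
  let ι : L →+* FractionRing L := algebraMap L _
  have hι : Function.Injective ι := IsFractionRing.injective L _
  have hfu : IsUnit ((ι.comp b') f) := Ne.isUnit fun h0 =>
    hfb (Ideal.mul_mem_right _ _ (hkb ▸ (RingHom.mem_ker.mpr (hι (h0.trans (map_zero ι).symm))) : f ∈ q'))
  let β : Localization.Away f →+* FractionRing L := IsLocalization.Away.lift f hfu
  have hβ : ∀ r, β (algebraMap R₀ _ r) = ι (b' r) := fun r => IsLocalization.Away.lift_eq _ _ r
  have hne : ∀ r, r ∉ q' → β (algebraMap R₀ _ r) ≠ 0 := fun r hr h0 => by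
    rw [hβ, map_eq_zero_iff ι hι, ← RingHom.mem_ker, hkb] at h0
    exact hr h0
  have hcompat : β.comp (algebraMap S₀ (Localization.Away f)) = (ι.comp a).comp (algebraMap S₀ S) := by
    refine RingHom.ext fun s => ?_
    rw [RingHom.comp_apply, IsScalarTower.algebraMap_apply S₀ R₀ (Localization.Away f), hβ]
    exact congrArg ι (RingHom.congr_fun hab s).symm
  obtain ⟨ψ, hψS, hψR⟩ := exists_descend f φ₀ hφ₀ hφ c hK (ι.comp a) β hcompat
    (by rw [hcb]; exact hne b fun h' => hfb (q'.mul_mem_left _ h'))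
  refine ⟨RingHom.ker ψ, RingHom.ker_isPrime ψ, ?_, ?_⟩
  · rw [RingHom.mem_ker, hψR]
    exact hne _ fun h' => ((inferInstance : q'.IsPrime).mem_or_mem h').elim hfb hgq
  · ext s
    rw [Ideal.mem_comap, RingHom.mem_ker, hψS, RingHom.comp_apply, map_eq_zero_iff ι hι, ← RingHom.mem_ker, hka]

theorem isClosedOrbit_comp_of_slice [Algebra.FiniteType k S] [Algebra.FiniteType k R]
    (h : Equivariant k A S R) {α : A →ₗ[k] k} (hα : ComodLib.IsIntegral k α) (h1 : α 1 = 1)
    (hS₀ : (IsScalarTower.toAlgHom k S₀ S).range = invariants k A S)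
    (hR₀ : (IsScalarTower.toAlgHom k R₀ R).range = invariants k A R)
    (f : R₀) (φ₀ : E₀ →ₐ[S₀] Localization.Away f) (hφ₀ : Function.Surjective φ₀)
    (hφ : Function.Surjective (sliceMap S R f φ₀)) (c : E₀) (b : R₀) (hcb : φ₀ c = algebraMap R₀ _ b)
    (hK : ∀ z, sliceMap S R f φ₀ z = 0 → ((1 : S) ⊗ₜ[S₀] c) * z = 0) (g : S₀)
    (x' : R →ₐ[k] k) (hx' : x' (algebraMap R₀ R (f * b * algebraMap S₀ R₀ g)) ≠ 0) (hxc' : IsClosedOrbit k A x') :
    IsClosedOrbit k A (x'.comp (IsScalarTower.toAlgHom k S R)) := by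
  simp only [map_mul] at hx'
  obtain ⟨⟨hf', hb'⟩, hg'⟩ : (x' (algebraMap R₀ R f) ≠ 0 ∧ x' (algebraMap R₀ R b) ≠ 0) ∧
      x' (algebraMap R₀ R (algebraMap S₀ R₀ g)) ≠ 0 := by
    simpa [not_or] using hx'
  set y' := x'.comp (IsScalarTower.toAlgHom k S R)
  obtain ⟨z, hzmin, hzall⟩ := exists_minimal_orbit hα h1 y'
  have hzy : InOrbitClosure k A y' z := hzall y' fun _ _ => rfl
  let β : Localization.Away f →+* k :=
    IsLocalization.Away.lift f (g := x'.toRingHom.comp (algebraMap R₀ R)) hf'.isUnit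
  have hβ : ∀ r, β (algebraMap R₀ _ r) = x' (algebraMap R₀ R r) := fun r => IsLocalization.Away.lift_eq _ _ r
  have hcompat : β.comp (algebraMap S₀ (Localization.Away f)) = z.toRingHom.comp (algebraMap S₀ S) :=
    RingHom.ext fun s => by
      rw [RingHom.comp_apply, IsScalarTower.algebraMap_apply S₀ R₀ (Localization.Away f), hβ,
        ← IsScalarTower.algebraMap_apply, IsScalarTower.algebraMap_apply S₀ S R]
      exact (eq_of_closures_meet_invariant hzy (hS₀ ▸ ⟨s, rfl⟩ : algebraMap S₀ S s ∈ invariants k A S)).symm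
  obtain ⟨ψ, hψS, hψR⟩ := exists_descend f φ₀ hφ₀ hφ c hK z.toRingHom β hcompat (by rw [hcb, hβ]; exact hb')
  let z' : R →ₐ[k] k := { ψ with
    commutes' := fun a => by
      show ψ (algebraMap k R a) = a
      rw [IsScalarTower.algebraMap_apply k S R, hψS]
      exact z.commutes a }
  have hz'S : z'.comp (IsScalarTower.toAlgHom k S R) = z := AlgHom.ext hψS
  obtain ⟨w, hw1, hw2⟩ := exists_closures_meet hα h1 z' x' fun r hr => by
    obtain ⟨r₀, rfl⟩ : r ∈ (IsScalarTower.toAlgHom k R₀ R).range := hR₀.symm ▸ hr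
    exact (hψR r₀).trans (hβ r₀)
  obtain ⟨g', rfl⟩ := mem_orbit_of_isClosedOrbit hxc' hw2
  have hle : RingHom.ker (orbitHom k A z') ≤ RingHom.ker (orbitHom k A x') :=
    ((inOrbitClosure_iff _ _).mp hw1).trans (ker_orbitHom_actPt g' x').le
  have hleS : RingHom.ker (orbitHom k A z) ≤ RingHom.ker (orbitHom k A y') := by
    rw [← hz'S, h.orbitHom_comp, h.orbitHom_comp]
    exact fun s hs => hle hs
  have heq : RingHom.ker (orbitHom k A z) = RingHom.ker (orbitHom k A y') :=
    le_antisymm hleS ((inOrbitClosure_iff _ _).mp hzy)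
  refine isClosedOrbit_of_forall_mem fun u hu => ?_
  obtain ⟨g₁, rfl⟩ := hzmin u (fun s hs => hu (heq ▸ hs))
  exact exists_actPt_of_ker_eq (heq.symm.trans (ker_orbitHom_actPt g₁ z).symm)

theorem exists_kills_of_map_tensor {S₀ S A B : Type u} [CommRing S₀] [CommRing S] [CommRing A] [CommRing B]
    [Algebra S₀ S] [Algebra S₀ A] [Algebra S₀ B] [Algebra A B] [IsScalarTower S₀ A B] (M : Submonoid A)
    [IsLocalization M B] (z : S ⊗[S₀] A)
    (hz : Algebra.TensorProduct.map (AlgHom.id S S) (IsScalarTower.toAlgHom S₀ A B) z = 0) :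
    ∃ a ∈ M, ((1 : S) ⊗ₜ[S₀] a) * z = 0 := by
  letI : Algebra (S ⊗[S₀] A) (S ⊗[S₀] B) :=
    (Algebra.TensorProduct.map (AlgHom.id S S) (IsScalarTower.toAlgHom S₀ A B)).toRingHom.toAlgebra
  haveI : IsScalarTower S (S ⊗[S₀] A) (S ⊗[S₀] B) := IsScalarTower.of_algebraMap_eq' (RingHom.ext fun s => by
    simp [RingHom.algebraMap_toAlgebra, Algebra.TensorProduct.algebraMap_apply])
  haveI := IsLocalization.tensorProduct_tensorProduct_right S₀ S M B (RingHom.ext fun r => by
    simp [RingHom.algebraMap_toAlgebra, Algebra.TensorProduct.includeRight_apply])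
  obtain ⟨⟨_, a, ha, rfl⟩, hn⟩ := (IsLocalization.map_eq_zero_iff
    (M.map (Algebra.TensorProduct.includeRight (R := S₀) (A := S))) (S ⊗[S₀] B) z).mp hz
  exact ⟨a, ha, hn⟩

theorem exists_pow_mul_eq_zero (f : R₀) (φ₀ : E₀ →ₐ[S₀] Localization.Away f) (hφ₀ : Function.Surjective φ₀)
    (c : E₀) (b : R₀) (hcb : φ₀ c = algebraMap R₀ _ b)
    (hK : ∀ z, sliceMap S R f φ₀ z = 0 → ((1 : S) ⊗ₜ[S₀] c) * z = 0) (g : S₀) :
    ∀ z : S ⊗[S₀] R₀,
      Algebra.TensorProduct.productMap (IsScalarTower.toAlgHom S₀ S R) (IsScalarTower.toAlgHom S₀ R₀ R) z = 0 →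
      ∃ n : ℕ, ((1 : S) ⊗ₜ[S₀] (f * b * algebraMap S₀ R₀ g)) ^ n * z = 0 := by
  intro z hz
  let μ := Algebra.TensorProduct.map (AlgHom.id S S) (IsScalarTower.toAlgHom S₀ R₀ (Localization.Away f))
  let Γ : S ⊗[S₀] E₀ →ₐ[S] S ⊗[S₀] Localization.Away f := Algebra.TensorProduct.map (AlgHom.id S S) φ₀
  have hΓ : Function.Surjective Γ := fun y => by
    induction y using TensorProduct.induction_on with
    | zero => exact ⟨0, map_zero _⟩
    | add u v hu hv =>
      obtain ⟨u', rfl⟩ := hu; obtain ⟨v', rfl⟩ := hv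
      exact ⟨u' + v', map_add _ _ _⟩
    | tmul s t =>
      obtain ⟨e, rfl⟩ := hφ₀ t
      exact ⟨s ⊗ₜ e, Algebra.TensorProduct.map_tmul _ _ _ _⟩
  let Ψ : S ⊗[S₀] Localization.Away f →ₐ[S] Localization.Away (algebraMap R₀ R f) :=
    Algebra.TensorProduct.lift (Algebra.ofId S _) (awayInv R f) fun _ _ => .all _ _
  have hΨ : ∀ w, Ψ (Γ w) = sliceMap S R f φ₀ w := fun w => by
    induction w using TensorProduct.induction_on with
    | zero => simp
    | add u v hu hv => simp only [map_add, hu, hv]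
    | tmul s e => rw [sliceMap_tmul]; simp [Γ, Ψ, awayInv, Algebra.ofId_apply]
  have hΨz : ∀ u : S ⊗[S₀] R₀, Ψ (μ u) = algebraMap R _
      (Algebra.TensorProduct.productMap (IsScalarTower.toAlgHom S₀ S R) (IsScalarTower.toAlgHom S₀ R₀ R) u) :=
    fun u => by
    induction u using TensorProduct.induction_on with
    | zero => simp
    | add u v hu hv => simp only [map_add, hu, hv]
    | tmul s r =>
      rw [Algebra.TensorProduct.productMap_apply_tmul, map_mul]
      simp [Ψ, μ, awayInv, Algebra.ofId_apply, Localization.awayMap,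
        IsLocalization.Away.map, IsLocalization.map_eq, ← IsScalarTower.algebraMap_apply]
  obtain ⟨w, hw⟩ := hΓ (μ z)
  have h0 : sliceMap S R f φ₀ w = 0 := by rw [← hΨ, hw, hΨz, hz, map_zero]
  have h0' := congrArg Γ (hK w h0)
  rw [map_mul, hw, map_zero] at h0'
  have hcb' : Γ ((1 : S) ⊗ₜ[S₀] c) = μ ((1 : S) ⊗ₜ[S₀] b) := by
    simp [Γ, μ, hcb]
  rw [hcb', ← map_mul] at h0'
  obtain ⟨_, ⟨n, rfl⟩, hn⟩ := exists_kills_of_map_tensor (Submonoid.powers f) _ h0'
  refine ⟨n + 1, ?_⟩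
  have hn' : ((1 : S) ⊗ₜ[S₀] (f ^ n)) * (((1 : S) ⊗ₜ[S₀] b) * z) = 0 := hn
  rw [Algebra.TensorProduct.tmul_pow, one_pow,
    show (f * b * algebraMap S₀ R₀ g) ^ (n + 1) =
      (f * b ^ n * algebraMap S₀ R₀ g ^ (n + 1)) * f ^ n * b by ring]
  calc ((1 : S) ⊗ₜ[S₀] (f * b ^ n * algebraMap S₀ R₀ g ^ (n + 1) * f ^ n * b)) * z
      = ((1 : S) ⊗ₜ[S₀] (f * b ^ n * algebraMap S₀ R₀ g ^ (n + 1))) *
          (((1 : S) ⊗ₜ[S₀] (f ^ n)) * (((1 : S) ⊗ₜ[S₀] b) * z)) := by
        simp only [← mul_assoc, Algebra.TensorProduct.tmul_mul_tmul, one_mul]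
    _ = 0 := by rw [hn', mul_zero]

theorem exists_pow_mul_eq_productMap (hR₀ : (IsScalarTower.toAlgHom k R₀ R).range = invariants k A R) {f₁ : R₀}
    (hW : ∀ t : R, ∃ n : ℕ, algebraMap R₀ R f₁ ^ n * t ∈ Algebra.adjoin S (invariants k A R : Set R))
    (d e : R₀) (he : e = d * f₁) :
    ∀ r : R, ∃ (n : ℕ) (z : S ⊗[S₀] R₀),
      Algebra.TensorProduct.productMap (IsScalarTower.toAlgHom S₀ S R) (IsScalarTower.toAlgHom S₀ R₀ R) z =
        algebraMap R₀ R e ^ n * r := by
  intro r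
  set pm := Algebra.TensorProduct.productMap (IsScalarTower.toAlgHom S₀ S R) (IsScalarTower.toAlgHom S₀ R₀ R)
  have hWr : ∀ w ∈ Algebra.adjoin S (invariants k A R : Set R), ∃ z, pm z = w := by
    intro w hw
    induction hw using Algebra.adjoin_induction with
    | mem w hw =>
      obtain ⟨w₀, rfl⟩ : w ∈ (IsScalarTower.toAlgHom k R₀ R).range := hR₀.symm ▸ hw
      exact ⟨(1 : S) ⊗ₜ w₀, by simp [pm]⟩
    | algebraMap s => exact ⟨s ⊗ₜ 1, by simp [pm]⟩
    | add u v _ _ hu hv =>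
      obtain ⟨zu, rfl⟩ := hu; obtain ⟨zv, rfl⟩ := hv
      exact ⟨zu + zv, map_add _ _ _⟩
    | mul u v _ _ hu hv =>
      obtain ⟨zu, rfl⟩ := hu; obtain ⟨zv, rfl⟩ := hv
      exact ⟨zu * zv, map_mul _ _ _⟩
  obtain ⟨n, hn⟩ := hW r
  obtain ⟨z, hz⟩ := hWr _ hn
  refine ⟨n, ((1 : S) ⊗ₜ (d ^ n)) * z, ?_⟩
  rw [map_mul, hz, he, map_mul, mul_pow, mul_assoc]
  simp [pm]

theorem exists_strongly_etale_nbhd [Algebra.FiniteType k S] [Algebra.FiniteType k R]
    (h : Equivariant k A S R) {α : A →ₗ[k] k} (hα : ComodLib.IsIntegral k α) (h1 : α 1 = 1)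
    (hS₀i : Function.Injective (algebraMap S₀ S))
    (hS₀ : (IsScalarTower.toAlgHom k S₀ S).range = invariants k A S)
    (hR₀i : Function.Injective (algebraMap R₀ R))
    (hR₀ : (IsScalarTower.toAlgHom k R₀ R).range = invariants k A R)
    (x : R →ₐ[k] k) (m : Ideal R) [m.IsMaximal] (hm : m = RingHom.ker x.toRingHom)
    (het : Algebra.IsEtaleAt S m)
    (hy : IsClosedOrbit k A (x.comp (IsScalarTower.toAlgHom k S R)))
    (hinj : ∀ g : A →ₐ[k] k, actPt k g (x.comp (IsScalarTower.toAlgHom k S R)) = x.comp (IsScalarTower.toAlgHom k S R) →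
      actPt k g x = x) :
    ∃ (f : R₀) (g : S₀), x (algebraMap R₀ R (f * algebraMap S₀ R₀ g)) ≠ 0 ∧
      (∀ P : Ideal S, P.IsPrime → algebraMap S₀ S g ∉ P →
        ∃ Q : Ideal R, Q.IsPrime ∧ algebraMap R₀ R (f * algebraMap S₀ R₀ g) ∉ Q ∧ Q.comap (algebraMap S R) = P) ∧
      (∀ (Q : Ideal R) [Q.IsPrime], algebraMap R₀ R (f * algebraMap S₀ R₀ g) ∉ Q → Algebra.IsEtaleAt S Q) ∧
      (∀ x' : R →ₐ[k] k, x' (algebraMap R₀ R (f * algebraMap S₀ R₀ g)) ≠ 0 → GLin.IsClosedOrbit k A x' →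
        GLin.IsClosedOrbit k A (x'.comp (IsScalarTower.toAlgHom k S R))) ∧
      (∀ (q : Ideal R₀) [q.IsPrime], f * algebraMap S₀ R₀ g ∉ q → Algebra.IsEtaleAt S₀ q) ∧
      (∀ z : S ⊗[S₀] R₀, Algebra.TensorProduct.productMap (IsScalarTower.toAlgHom S₀ S R) (IsScalarTower.toAlgHom S₀ R₀ R) z = 0 →
        ∃ n : ℕ, ((1 : S) ⊗ₜ[S₀] (f * algebraMap S₀ R₀ g)) ^ n * z = 0) ∧
      (∀ r : R, ∃ (n : ℕ) (z : S ⊗[S₀] R₀),
        Algebra.TensorProduct.productMap (IsScalarTower.toAlgHom S₀ S R) (IsScalarTower.toAlgHom S₀ R₀ R) z =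
          algebraMap R₀ R (f * algebraMap S₀ R₀ g) ^ n * r) := by
  classical
  haveI : IsNoetherianRing S := Algebra.FiniteType.isNoetherianRing k S
  haveI : Algebra.FiniteType S R := Algebra.FiniteType.of_restrictScalars_finiteType k S R
  haveI : Algebra.FinitePresentation S R := Algebra.FinitePresentation.of_finiteType.mp inferInstance
  haveI : Algebra.IsUnramifiedAt S m := by
    haveI := het
    show Algebra.FormallyUnramified S (Localization.AtPrime m)
    infer_instance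
  have hmem : ∀ r : R, r ∈ m ↔ x r = 0 := fun r => hm ▸ RingHom.mem_ker
  obtain ⟨hxc, ⟨f₁, hf₁, hW⟩, hU⟩ := exists_model_facts h hα h1 hS₀i hS₀ hR₀i hR₀ x m hm hy hinj
  haveI : Algebra.FiniteType k R₀ := finiteType_invariants hα h1 hR₀i hR₀
  haveI : IsScalarTower k S₀ R₀ := IsScalarTower.of_algebraMap_eq fun c => hR₀i (by
    rw [← IsScalarTower.algebraMap_apply S₀ R₀ R, IsScalarTower.algebraMap_apply S₀ S R,
      ← IsScalarTower.algebraMap_apply k S₀ S, ← IsScalarTower.algebraMap_apply k S R,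
      ← IsScalarTower.algebraMap_apply k R₀ R])
  haveI : IsNoetherianRing S₀ := by
    haveI := isNoetherianRing_invariants (R := S) hα h1
    exact isNoetherianRing_of_ringEquiv _ (((AlgEquiv.ofInjective (IsScalarTower.toAlgHom k S₀ S) hS₀i).trans
      (Subalgebra.equivOfEq _ _ hS₀)).symm.toRingEquiv)
  haveI : Algebra.FiniteType S₀ R₀ := Algebra.FiniteType.of_restrictScalars_finiteType k S₀ R₀
  haveI : Algebra.FinitePresentation S₀ R₀ := Algebra.FinitePresentation.of_finiteType.mp inferInstance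
  set q := m.comap (algebraMap R₀ R) with hq
  haveI : q.IsMaximal := by
    rw [hq, hm, RingHom.comap_ker]
    refine RingHom.ker_isMaximal_of_surjective _ fun c => ⟨algebraMap k R₀ c, ?_⟩
    show x (algebraMap R₀ R (algebraMap k R₀ c)) = c
    rw [← IsScalarTower.algebraMap_apply, AlgHom.commutes, Algebra.algebraMap_self_apply]
  set p := q.comap (algebraMap S₀ R₀) with hp
  haveI : q.LiesOver p := ⟨rfl⟩
  let := Localization.AtPrime.algebraOfLiesOver p q
  haveI : Algebra.IsUnramifiedAt S₀ q := by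
    haveI : CharZero p.ResidueField := charZero_of_injective_algebraMap (algebraMap k p.ResidueField).injective
    have hsurj : Function.Surjective (algebraMap p.ResidueField q.ResidueField) := fun z => by
      obtain ⟨r, rfl⟩ := Ideal.algebraMap_residueField_surjective q z
      refine ⟨algebraMap S₀ p.ResidueField (algebraMap k S₀ (x (algebraMap R₀ R r))), ?_⟩
      rw [← IsScalarTower.algebraMap_apply S₀ p.ResidueField q.ResidueField,
        IsScalarTower.algebraMap_apply S₀ R₀ q.ResidueField, ← IsScalarTower.algebraMap_apply k S₀ R₀,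
        ← sub_eq_zero, ← map_sub, Ideal.algebraMap_residueField_eq_zero]
      show algebraMap R₀ R _ ∈ m
      rw [hmem, map_sub, map_sub, ← IsScalarTower.algebraMap_apply k R₀ R, AlgHom.commutes,
        Algebra.algebraMap_self_apply, sub_self]
    haveI : Module.Finite p.ResidueField q.ResidueField :=
      Module.Finite.of_surjective (Algebra.linearMap p.ResidueField q.ResidueField) hsurj
    refine (Algebra.isUnramifiedAt_iff_map_eq S₀ p q).mpr ⟨inferInstance, le_antisymm ?_ ?_⟩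
    · rw [IsScalarTower.algebraMap_eq S₀ R₀, ← Ideal.map_map, ← Localization.AtPrime.map_eq_maximalIdeal]
      exact Ideal.map_mono Ideal.map_comap_le
    · rw [← Localization.AtPrime.map_eq_maximalIdeal]
      refine Ideal.map_le_iff_le_comap.mpr fun a ha => ?_
      obtain ⟨e, he, hef⟩ := hU a ha
      rw [Ideal.mem_comap, IsScalarTower.algebraMap_eq S₀ R₀, ← Ideal.map_map]
      exact (IsLocalization.algebraMap_mem_map_algebraMap_iff q.primeCompl _ _ a).mpr ⟨e, he, hef⟩
  obtain ⟨f₂, hf₂, hsd⟩ := Algebra.IsUnramifiedAt.exists_hasStandardEtaleSurjectionOn (R := S₀) q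
  set f := f₂ * f₁ with hfdef
  obtain ⟨P, φ₀, hφ₀⟩ := hsd.of_dvd (dvd_mul_right f₂ f₁ : f₂ ∣ f)
  have hfx : x (algebraMap R₀ R f) ≠ 0 := by
    rw [hfdef, map_mul, map_mul]
    exact mul_ne_zero (fun h' => hf₂ ((hmem _).mpr h')) hf₁
  have hφ : Function.Surjective (sliceMap S R f φ₀) :=
    sliceMap_surjective hR₀ f f₁ (dvd_mul_left f₁ f₂) hW φ₀ hφ₀
  obtain ⟨c, b, hbx, hcb, hK, hK₀⟩ :=
    exists_average_kills h hα h1 hS₀i hS₀ hR₀i hR₀ x hxc m hm het f hfx φ₀ hφ
  -- étaleness downstairs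
  haveI : IsLocalization.Away (f * b) (Localization.Away (φ₀ c)) := by
    haveI : IsLocalization.Away (algebraMap R₀ (Localization.Away f) b) (Localization.Away (φ₀ c)) := by
      rw [← hcb]; infer_instance
    exact IsLocalization.Away.mul' (Localization.Away f) _ f b
  haveI hE₀ : Algebra.Etale S₀ (Localization.Away (φ₀ c)) := etale_away_of_kills φ₀ hφ₀ c hK₀
  haveI hE₀' : Algebra.Etale S₀ (Localization.Away (f * b)) := Algebra.Etale.of_equiv
    ((IsLocalization.algEquiv (Submonoid.powers (f * b)) (Localization.Away (φ₀ c))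
      (Localization.Away (f * b))).restrictScalars S₀)
  have het₀ : ∀ (q' : Ideal R₀) [q'.IsPrime], f * b ∉ q' → Algebra.IsEtaleAt S₀ q' := fun q' _ hq' =>
    Algebra.basicOpen_subset_etaleLocus_iff_etale.mpr hE₀'
      (show (⟨q', inferInstance⟩ : PrimeSpectrum R₀) ∈ PrimeSpectrum.basicOpen (f * b) from hq')
  -- the image downstairs is open
  have hfbq : f * b ∉ q := fun h' => by
    have := (hmem _).mp h'
    rw [map_mul, map_mul] at this
    exact mul_ne_zero hfx hbx this
  have hrange : (⟨p, inferInstance⟩ : PrimeSpectrum S₀) ∈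
      Set.range (PrimeSpectrum.comap (algebraMap S₀ (Localization.Away (f * b)))) := by
    have hd : Disjoint (Submonoid.powers (f * b) : Set R₀) q :=
      (Ideal.disjoint_powers_iff_notMem _ (Ideal.IsPrime.isRadical inferInstance)).mpr hfbq
    refine ⟨⟨q.map (algebraMap R₀ _), IsLocalization.isPrime_of_isPrime_disjoint _ _ q inferInstance hd⟩,
      PrimeSpectrum.ext ?_⟩
    show (q.map (algebraMap R₀ (Localization.Away (f * b)))).comap (algebraMap S₀ _) = p
    rw [IsScalarTower.algebraMap_eq S₀ R₀, ← Ideal.comap_comap]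
    exact congrArg (Ideal.comap (algebraMap S₀ R₀)) (IsLocalization.comap_map_of_isPrime_disjoint _ _ inferInstance hd)
  haveI : Algebra.FinitePresentation S₀ (Localization.Away (f * b)) := inferInstance
  obtain ⟨_, ⟨_, ⟨g, rfl⟩, rfl⟩, hgp, hgsub⟩ := PrimeSpectrum.isBasis_basic_opens.exists_subset_of_mem_open
    hrange PrimeSpectrum.isOpenMap_comap_of_hasGoingDown_of_finitePresentation.isOpen_range
  have hgx : x (algebraMap R₀ R (algebraMap S₀ R₀ g)) ≠ 0 := fun h' => hgp ((hmem _).mpr h')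
  -- the conclusions
  haveI : Algebra.Etale S (S ⊗[S₀] P.Ring) := Algebra.Etale.baseChange (R := S₀) (A := P.Ring) S
  have hcR : sliceMap S R f φ₀ ((1 : S) ⊗ₜ[S₀] c) =
      algebraMap R (Localization.Away (algebraMap R₀ R f)) (algebraMap R₀ R b) := by
    rw [sliceMap_tmul, map_one, one_mul, hcb]
    exact IsLocalization.map_eq _ b
  haveI hER : Algebra.Etale S (Localization.Away (algebraMap R₀ R f * algebraMap R₀ R b)) := by
    haveI := etale_away_of_kills (sliceMap S R f φ₀) hφ ((1 : S) ⊗ₜ[S₀] c) hK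
    haveI : IsLocalization.Away (algebraMap R₀ R f * algebraMap R₀ R b)
        (Localization.Away (sliceMap S R f φ₀ ((1 : S) ⊗ₜ[S₀] c))) := by
      haveI : IsLocalization.Away (algebraMap R (Localization.Away (algebraMap R₀ R f)) (algebraMap R₀ R b))
          (Localization.Away (sliceMap S R f φ₀ ((1 : S) ⊗ₜ[S₀] c))) := by
        rw [← hcR]; infer_instance
      exact IsLocalization.Away.mul' (Localization.Away (algebraMap R₀ R f)) _ _ _
    exact Algebra.Etale.of_equiv ((IsLocalization.algEquiv (Submonoid.powers (algebraMap R₀ R f * algebraMap R₀ R b))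
      (Localization.Away (sliceMap S R f φ₀ ((1 : S) ⊗ₜ[S₀] c)))
      (Localization.Away (algebraMap R₀ R f * algebraMap R₀ R b))).restrictScalars S)
  refine ⟨f * b, g, ?_, ?_, ?_, ?_, ?_, ?_, ?_⟩
  · simp only [map_mul]
    exact mul_ne_zero (mul_ne_zero hfx hbx) hgx
  · exact exists_prime_over f φ₀ hφ₀ hφ c b hcb hK g hgsub
  · intro Q _ hQ
    have hQ' : algebraMap R₀ R f * algebraMap R₀ R b ∉ Q := fun h' => hQ (by
      rw [map_mul, map_mul]; exact Ideal.mul_mem_right _ _ h')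
    exact Algebra.basicOpen_subset_etaleLocus_iff_etale.mpr hER
      (show (⟨Q, inferInstance⟩ : PrimeSpectrum R) ∈ PrimeSpectrum.basicOpen _ from hQ')
  · exact fun x' => isClosedOrbit_comp_of_slice h hα h1 hS₀ hR₀ f φ₀ hφ₀ hφ c b hcb hK g x'
  · intro q' _ hq'
    exact het₀ q' fun h' => hq' (q'.mul_mem_right _ h')
  · exact exists_pow_mul_eq_zero f φ₀ hφ₀ c b hcb hK g
  · exact exists_pow_mul_eq_productMap hR₀ hW (f₂ * b * algebraMap S₀ R₀ g) (f * b * algebraMap S₀ R₀ g)
      (by rw [hfdef]; ring)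

end Groth.Agent.LunaEt
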