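import Groth.Agent.LunaEt.Fibre
import Groth.Agent.StrongEt.Inv

/-! # The quotient of a finite equivariant morphism is unramified -/

set_option autoImplicit false
set_option maxHeartbeats 1000000
universe u

open TensorProduct

namespace Groth.Agent.LunaEt

open ComodLib GLin

/-- An element close to the idempotent of one point of a finite fibre. -/
theorem exists_almost_idempotent {R₀ : Type u} [CommRing R₀] [IsNoetherianRing R₀] (J q : Ideal R₀)
    [hq : q.IsMaximal] (hJ : ∀ P : Ideal R₀, P.IsPrime → J ≤ P → P.IsMaximal) :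
    ∃ e : R₀, e - 1 ∈ q ∧ e * (1 - e) ∈ J ∧ ∀ P : Ideal R₀, P.IsPrime → J ≤ P → P ≠ q → e ∈ P := by
  classical
  have hsub : {P : Ideal R₀ | P.IsPrime ∧ J ≤ P} ⊆ J.minimalPrimes := by
    rintro P ⟨hP, hle⟩
    haveI := hP
    obtain ⟨P', hP', hle'⟩ := Ideal.exists_minimalPrimes_le hle
    have : P' = P := ((hJ P' hP'.1.1 hP'.1.2).eq_of_le hP.ne_top hle')
    exact this ▸ hP'
  have hfin : {P : Ideal R₀ | P.IsPrime ∧ J ≤ P ∧ P ≠ q}.Finite :=
    ((Ideal.finite_minimalPrimes_of_isNoetherianRing R₀ J).subset hsub).subset fun P hP => ⟨hP.1, hP.2.1⟩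
  have hex : ∀ P : Ideal R₀, ∃ a : R₀, a ∉ q ∧ (P.IsPrime → J ≤ P → P ≠ q → a ∈ P) := fun P => by
    by_cases hc : P.IsPrime ∧ J ≤ P ∧ P ≠ q
    · obtain ⟨a, ha, ha'⟩ := SetLike.not_le_iff_exists.mp
        (fun hle => hc.2.2 ((hJ P hc.1 hc.2.1).eq_of_le hq.ne_top hle) : ¬ P ≤ q)
      exact ⟨a, ha', fun _ _ _ => ha⟩
    · exact ⟨1, (Ideal.ne_top_iff_one q).mp hq.ne_top, fun h1 h2 h3 => absurd ⟨h1, h2, h3⟩ hc⟩
  choose a ha ha' using hex
  have hu : ∏ P ∈ hfin.toFinset, a P ∉ q := by
    intro hmem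
    obtain ⟨P, -, hP⟩ := hq.isPrime.prod_mem_iff.mp hmem
    exact ha P hP
  obtain ⟨b, i, hi, hbi⟩ := hq.exists_inv hu
  set e₁ := b * ∏ P ∈ hfin.toFinset, a P with he₁
  have he₁q : e₁ - 1 ∈ q := by
    have : e₁ - 1 = -i := by rw [← hbi]; ring
    exact this ▸ q.neg_mem hi
  have hothers : ∀ P : Ideal R₀, P.IsPrime → J ≤ P → P ≠ q → e₁ ∈ P := fun P hP hle hne =>
    P.mul_mem_left b (Ideal.mem_of_dvd P
      (Finset.dvd_prod_of_mem a (hfin.mem_toFinset.mpr ⟨hP, hle, hne⟩)) (ha' P hP hle hne))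
  have hrad : e₁ * (1 - e₁) ∈ J.radical := by
    rw [Ideal.radical_eq_sInf]
    refine Submodule.mem_sInf.mpr fun P hP => ?_
    by_cases h : P = q
    · subst h
      exact Ideal.mul_mem_left _ _ (by simpa using P.neg_mem he₁q)
    · exact Ideal.mul_mem_right _ _ (hothers P hP.2 hP.1 h)
  obtain ⟨N, hN⟩ := hrad
  refine ⟨1 - (1 - e₁ ^ (N + 1)) ^ (N + 1), ?_, ?_, fun P hP hle hne => ?_⟩
  · have : 1 - e₁ ^ (N + 1) ∈ q := by
      have h := sub_dvd_pow_sub_pow (1 : R₀) e₁ (N + 1)
      rw [one_pow] at h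
      exact Ideal.mem_of_dvd q h (by simpa using q.neg_mem he₁q)
    have h2 : (1 - e₁ ^ (N + 1)) ^ (N + 1) ∈ q := Ideal.pow_mem_of_mem q this _ (Nat.succ_pos N)
    simpa using q.neg_mem h2
  · have h1 : e₁ ^ (N + 1) ∣ 1 - (1 - e₁ ^ (N + 1)) ^ (N + 1) := by
      have := sub_dvd_pow_sub_pow (1 : R₀) (1 - e₁ ^ (N + 1)) (N + 1)
      simpa using this
    have h2 : (1 - e₁) ^ (N + 1) ∣ 1 - (1 - (1 - e₁ ^ (N + 1)) ^ (N + 1)) := by
      rw [sub_sub_cancel]
      refine pow_dvd_pow_of_dvd ?_ _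
      simpa using sub_dvd_pow_sub_pow (1 : R₀) e₁ (N + 1)
    have h3 : e₁ ^ (N + 1) * (1 - e₁) ^ (N + 1) ∈ J := by
      rw [← mul_pow, pow_succ]
      exact J.mul_mem_right _ hN
    exact Ideal.mem_of_dvd J (mul_dvd_mul h1 h2) h3
  · have : e₁ ^ (N + 1) ∈ P := Ideal.pow_mem_of_mem P (hothers P hP hle hne) _ (Nat.succ_pos N)
    refine Ideal.mem_of_dvd P ?_ this
    simpa using sub_dvd_pow_sub_pow (1 : R₀) (1 - e₁ ^ (N + 1)) (N + 1)

/-- If `S → R` is unramified at a maximal ideal, that ideal is locally generated by its contraction. -/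
theorem exists_mul_mem_map {S : Type u} [CommRing S] {R : Type u} [CommRing R] [Algebra S R]
    [Algebra.EssFiniteType S R] (m : Ideal R) [m.IsPrime] [Algebra.IsUnramifiedAt S m] {r : R} (hr : r ∈ m) :
    ∃ v ∉ m, v * r ∈ (m.comap (algebraMap S R)).map (algebraMap S R) := by
  let n := m.comap (algebraMap S R)
  haveI : m.LiesOver n := ⟨rfl⟩
  let := Localization.AtPrime.algebraOfLiesOver n m
  have h : n.map (algebraMap S (Localization.AtPrime m)) = IsLocalRing.maximalIdeal _ :=
    ((Algebra.isUnramifiedAt_iff_map_eq S n m).mp inferInstance).2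
  rw [IsScalarTower.algebraMap_eq S R, ← Ideal.map_map] at h
  have h2 : algebraMap R (Localization.AtPrime m) r ∈ (n.map (algebraMap S R)).map (algebraMap R _) := by
    rw [h, ← Localization.AtPrime.map_eq_maximalIdeal]
    exact Ideal.mem_map_of_mem _ hr
  obtain ⟨v, hv, hvr⟩ := (IsLocalization.algebraMap_mem_map_algebraMap_iff m.primeCompl _ _ r).mp h2
  exact ⟨v, hv, hvr⟩

variable {k : Type u} [Field k] [IsAlgClosed k] {A : Type u} [CommRing A] [HopfAlgebra k A] [Algebra.FiniteType k A]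
  [IsDomain A]
  {S : Type u} [CommRing S] [Algebra k S] [Algebra.FiniteType k S] [HopfRep.Comod k A S] [GLin.IsCoactAlg k A S]
  {R : Type u} [CommRing R] [Algebra k R] [Algebra.FiniteType k R] [HopfRep.Comod k A R] [GLin.IsCoactAlg k A R]
  [Algebra S R] [IsScalarTower k S R]
  {S₀ : Type u} [CommRing S₀] [Algebra k S₀] [Algebra S₀ S] [IsScalarTower k S₀ S]
  {R₀ : Type u} [CommRing R₀] [Algebra k R₀] [Algebra R₀ R] [IsScalarTower k R₀ R]
  [Algebra S₀ R₀] [Algebra S₀ R] [IsScalarTower S₀ S R] [IsScalarTower S₀ R₀ R]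

omit [IsAlgClosed k] [IsDomain A] [Algebra.FiniteType k A] in
/-- Invariants of a finite equivariant algebra are finite over the invariants. -/
theorem finite_invariants [Module.Finite S R] (h : Equivariant k A S R) {α : A →ₗ[k] k} (hα : IsIntegral k α)
    (h1 : α 1 = 1) (hS₀ : (IsScalarTower.toAlgHom k S₀ S).range = invariants k A S)
    (hR₀i : Function.Injective (algebraMap R₀ R))
    (hR₀ : (IsScalarTower.toAlgHom k R₀ R).range = invariants k A R) : Module.Finite S₀ R₀ := by
  haveI := h.isHopfMod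
  haveI : IsNoetherianRing S := Algebra.FiniteType.isNoetherianRing k S
  obtain ⟨s, hs, hgen⟩ := exists_finset_fixedPts (R := S) (M := R) hα h1
  have hlift : ∀ y ∈ s, ∃ r : R₀, algebraMap R₀ R r = y := fun y hy => by
    have : y ∈ (IsScalarTower.toAlgHom k R₀ R).range := hR₀.symm ▸ (hs hy)
    exact this
  choose lift hlift using hlift
  classical
  refine ⟨⟨s.attach.image fun y => lift y.1 y.2, eq_top_iff.mpr fun r _ => ?_⟩⟩
  obtain ⟨c, hc, hr⟩ := hgen (algebraMap R₀ R r) (hR₀ ▸ ⟨r, rfl⟩ : algebraMap R₀ R r ∈ invariants k A R)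
  have hc' : ∀ y ∈ s, ∃ c₀ : S₀, algebraMap S₀ S c₀ = c y := fun y hy => by
    have : c y ∈ (IsScalarTower.toAlgHom k S₀ S).range := hS₀.symm ▸ hc y hy
    exact this
  choose c₀ hc₀ using hc'
  have he : r = ∑ y ∈ s.attach, c₀ y.1 y.2 • lift y.1 y.2 := hR₀i (by
    rw [hr, map_sum, ← Finset.sum_attach]
    refine Finset.sum_congr rfl fun y _ => ?_
    rw [Algebra.smul_def (c y.1), Algebra.smul_def (c₀ y.1 y.2), map_mul, hlift,
      ← IsScalarTower.algebraMap_apply S₀ R₀ R, IsScalarTower.algebraMap_apply S₀ S R, hc₀])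
  rw [he]
  exact Submodule.sum_mem _ fun y _ => Submodule.smul_mem _ _
    (Submodule.subset_span (Finset.mem_coe.mpr (Finset.mem_image_of_mem _ (Finset.mem_attach s y))))

omit [IsAlgClosed k] [IsDomain A] [Algebra.FiniteType k A] [Algebra.FiniteType k R] in
/-- Ideals of the invariants are contracted, in the form used below. -/
theorem mem_of_map_mem {α : A →ₗ[k] k} (hα : IsIntegral k α) (h1 : α 1 = 1)
    (hR₀i : Function.Injective (algebraMap R₀ R))
    (hR₀ : (IsScalarTower.toAlgHom k R₀ R).range = invariants k A R) (I : Ideal R₀) {b : R₀}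
    (hb : algebraMap R₀ R b ∈ I.map (algebraMap R₀ R)) : b ∈ I := by
  let eR : R₀ ≃ₐ[k] invariants k A R :=
    (AlgEquiv.ofInjective (IsScalarTower.toAlgHom k R₀ R) hR₀i).trans (Subalgebra.equivOfEq _ _ hR₀)
  let I₀ : Ideal (invariants k A R) := I.map eR.toRingEquiv.toRingHom
  have hcomp : (invariants k A R).val.toRingHom.comp eR.toRingEquiv.toRingHom = algebraMap R₀ R :=
    RingHom.ext fun r => rfl
  have := (comap_map_val hα h1 I₀).le
    (show eR b ∈ Ideal.comap (invariants k A R).val.toRingHom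
        (Ideal.map (invariants k A R).val.toRingHom I₀) by
      rw [Ideal.mem_comap, Ideal.map_map, hcomp]
      exact hb)
  obtain ⟨c, hc, hce⟩ := (Ideal.mem_map_iff_of_surjective _ eR.surjective).mp this
  exact eR.injective hce ▸ hc

omit [Algebra.FiniteType k R] in
/-- An invariant ideal containing the invariants vanishing at a closed orbit, but not the orbit, is the unit
ideal. -/
theorem eq_top_of_stable {α : A →ₗ[k] k} (hα : IsIntegral k α) (h1 : α 1 = 1)
    (hS₀ : (IsScalarTower.toAlgHom k S₀ S).range = invariants k A S)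
    (y : S →ₐ[k] k) (hy : IsClosedOrbit k A y) (J : Ideal S)
    (hJ : ∀ (g : A →ₐ[k] k), ∀ a ∈ J, HopfRep.Comod.act k A S g a ∈ J)
    (hJ₀ : ∀ s₀ : S₀, y (algebraMap S₀ S s₀) = 0 → algebraMap S₀ S s₀ ∈ J)
    (hyJ : ¬ J ≤ RingHom.ker y) : J = ⊤ := by
  by_contra hne
  obtain ⟨c, hc⟩ := exists_point (k := k) J hne
  obtain ⟨z, hz1, hz2⟩ := exists_closures_meet hα h1 c y fun f hf => by
    obtain ⟨f₀, rfl⟩ : f ∈ (IsScalarTower.toAlgHom k S₀ S).range := hS₀.symm ▸ hf
    have hf₀ := hc (hJ₀ (f₀ - algebraMap k S₀ (y (algebraMap S₀ S f₀))) (by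
      rw [map_sub, map_sub, ← IsScalarTower.algebraMap_apply k S₀ S, AlgHom.commutes,
        Algebra.algebraMap_self_apply, sub_self]))
    rw [RingHom.mem_ker, map_sub, map_sub, ← IsScalarTower.algebraMap_apply k S₀ S, AlgHom.commutes,
      Algebra.algebraMap_self_apply, sub_eq_zero] at hf₀
    exact hf₀
  obtain ⟨g, rfl⟩ := mem_orbit_of_isClosedOrbit hy hz2
  refine hyJ fun a ha => ?_
  have hor : a ∈ RingHom.ker (orbitHom k A c) := by
    rw [RingHom.mem_ker]
    by_contra hne'
    obtain ⟨g', hg'⟩ := exists_point_ne_zero (k := k) (a := orbitHom k A c a) (fun hn' => hne' hn'.eq_zero)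
    exact hg' ((actPt_apply g' c a).trans (hc (hJ g' a ha)))
  have h2 := (ker_orbitHom_actPt g y).le (((inOrbitClosure_iff _ _).mp hz1) hor)
  exact ker_orbitHom_le _ h2

/-- The key step of Luna's lemma: at the image of a closed orbit on which the map is injective and unramified,
the maximal ideal of the invariants is generated by that of the invariants downstairs. -/
theorem exists_mul_mem_map_invariants [Module.Finite S R] [Module.Finite S₀ R₀] [IsNoetherianRing R₀]
    (h : Equivariant k A S R) {α : A →ₗ[k] k} (hα : IsIntegral k α) (h1 : α 1 = 1)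
    (hS₀ : (IsScalarTower.toAlgHom k S₀ S).range = invariants k A S)
    (hR₀i : Function.Injective (algebraMap R₀ R))
    (hR₀ : (IsScalarTower.toAlgHom k R₀ R).range = invariants k A R)
    (x : R →ₐ[k] k) (hx : IsClosedOrbit k A x) (m : Ideal R) [m.IsMaximal] (hm : m = RingHom.ker x.toRingHom)
    [Algebra.IsUnramifiedAt S m]
    (hinj : ∀ g : A →ₐ[k] k, actPt k g (x.comp (IsScalarTower.toAlgHom k S R)) = x.comp (IsScalarTower.toAlgHom k S R) →
      actPt k g x = x)
    {f : R₀} (hf : f ∈ m.comap (algebraMap R₀ R)) :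
    ∃ e ∉ m.comap (algebraMap R₀ R),
      e * f ∈ ((m.comap (algebraMap R₀ R)).comap (algebraMap S₀ R₀)).map (algebraMap S₀ R₀) := by
  classical
  let ι := IsScalarTower.toAlgHom k S R
  have hmem : ∀ r : R, r ∈ m ↔ x r = 0 := fun r => hm ▸ RingHom.mem_ker
  set q := m.comap (algebraMap R₀ R) with hqdef
  set p := q.comap (algebraMap S₀ R₀) with hpdef
  haveI hqmax : q.IsMaximal := by
    rw [hqdef, hm, RingHom.comap_ker]
    refine RingHom.ker_isMaximal_of_surjective _ fun c => ⟨algebraMap k R₀ c, ?_⟩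
    show x (algebraMap R₀ R (algebraMap k R₀ c)) = c
    rw [← IsScalarTower.algebraMap_apply, AlgHom.commutes, Algebra.algebraMap_self_apply]
  haveI hpmax : p.IsMaximal := Ideal.isMaximal_comap_of_isIntegral_of_isMaximal q
  obtain ⟨e, he1, hee, heo⟩ := exists_almost_idempotent (p.map (algebraMap S₀ R₀)) q
    fun P hP hle => by
      haveI := hP
      refine Ideal.isMaximal_of_isIntegral_of_isMaximal_comap (R := S₀) P ?_
      exact (hpmax.eq_of_le (Ideal.comap_ne_top _ hP.ne_top) (Ideal.map_le_iff_le_comap.mp hle)) ▸ hpmax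
  set j : R₀ →+* R := algebraMap R₀ R
  set pR : Ideal R := (p.map (algebraMap S₀ R₀)).map j with hpR
  have heq : e ∉ q := fun h' => hqmax.ne_top ((Ideal.eq_top_iff_one q).mpr (by simpa using q.sub_mem h' he1))
  have hee' : j e * (1 - j e) ∈ pR := by
    have := Ideal.mem_map_of_mem j hee
    rwa [map_mul, map_sub, map_one] at this
  have hfix : ∀ (r : R₀), j r ∈ invariants k A R := fun r => hR₀ ▸ ⟨r, rfl⟩
  have hpS : ∀ a ∈ p, algebraMap S R (algebraMap S₀ S a) ∈ pR := fun a ha => by
    rw [← IsScalarTower.algebraMap_apply, IsScalarTower.algebraMap_apply S₀ R₀ R]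
    exact Ideal.mem_map_of_mem _ (Ideal.mem_map_of_mem _ ha)
  set n := m.comap (algebraMap S R) with hn
  -- the fibre of `x` on the piece cut out by `e`
  set I : Ideal R := n.map (algebraMap S R) ⊔ Ideal.span {1 - j e} with hI
  have hpts : ∀ y : R →ₐ[k] k, I ≤ RingHom.ker y → y = x := by
    intro y hy
    have hye : y (j e) = 1 := by
      have : 1 - j e ∈ RingHom.ker y := hy (Ideal.mem_sup_right (Ideal.subset_span rfl))
      rw [RingHom.mem_ker, map_sub, map_one, sub_eq_zero] at this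
      exact this.symm
    have hyn : y.comp ι = x.comp ι := by
      refine eq_of_ker_le fun s hs => ?_
      haveI : n.IsMaximal := Ideal.isMaximal_comap_of_isIntegral_of_isMaximal m
      have hs' : s ∈ (RingHom.ker y).comap (algebraMap S R) := hs
      have hle : n ≤ (RingHom.ker y).comap (algebraMap S R) :=
        Ideal.map_le_iff_le_comap.mp (le_sup_left.trans hy)
      rw [← ‹n.IsMaximal›.eq_of_le (Ideal.comap_ne_top _ (RingHom.ker_ne_top y)) hle] at hs'
      exact (hmem _).mp hs'
    refine eq_of_comp_eq h hα h1 hx hinj (fun f hf => ?_) hyn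
    obtain ⟨f₀, rfl⟩ : f ∈ (IsScalarTower.toAlgHom k R₀ R).range := hR₀.symm ▸ hf
    let Q : Ideal R₀ := (RingHom.ker y).comap j
    haveI : (RingHom.ker y).IsPrime := RingHom.ker_isPrime _
    haveI : Q.IsPrime := Ideal.comap_isPrime _ _
    have hle : p.map (algebraMap S₀ R₀) ≤ Q := Ideal.map_le_iff_le_comap.mpr fun a ha => by
      show y (j (algebraMap S₀ R₀ a)) = 0
      rw [← IsScalarTower.algebraMap_apply, IsScalarTower.algebraMap_apply S₀ S R]
      refine (AlgHom.congr_fun hyn (algebraMap S₀ S a)).trans ?_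
      show x (algebraMap S R (algebraMap S₀ S a)) = 0
      rw [← IsScalarTower.algebraMap_apply, IsScalarTower.algebraMap_apply S₀ R₀ R]
      exact (hmem _).mp ha
    have hQq : Q = q := by
      by_contra hne
      have : y (j e) = 0 := heo Q inferInstance hle hne
      exact one_ne_zero (hye.symm.trans this)
    show y (j f₀) = x (j f₀)
    have hmem' : f₀ - algebraMap k R₀ (x (j f₀)) ∈ q := by
      show j _ ∈ m
      rw [hmem, map_sub, map_sub, ← IsScalarTower.algebraMap_apply, AlgHom.commutes,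
        Algebra.algebraMap_self_apply, sub_self]
    rw [← hQq] at hmem'
    have : y (j (f₀ - algebraMap k R₀ (x (j f₀)))) = 0 := hmem'
    rwa [map_sub, map_sub, ← IsScalarTower.algebraMap_apply, AlgHom.commutes,
      Algebra.algebraMap_self_apply, sub_eq_zero] at this
  have hmI : m ≤ I := by
    intro r hr
    obtain ⟨v, hv, hvr⟩ := exists_mul_mem_map (S := S) m hr
    have htop : I ⊔ Ideal.span {v} = ⊤ := by
      by_contra hne
      obtain ⟨y, hy⟩ := exists_point (k := k) _ hne
      have hyx := hpts y (le_sup_left.trans hy)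
      exact hv ((hmem v).mpr (hyx ▸ hy (Ideal.mem_sup_right (Ideal.subset_span rfl))))
    obtain ⟨i, hi, w, hw, hiw⟩ := Submodule.mem_sup.mp ((Ideal.eq_top_iff_one _).mp htop)
    obtain ⟨a, rfl⟩ := Ideal.mem_span_singleton'.mp hw
    have : r = i * r + a * (v * r) := by rw [← mul_assoc, ← add_mul, hiw, one_mul]
    rw [this]
    exact I.add_mem (I.mul_mem_right _ hi) (I.mul_mem_left _ (Ideal.mem_sup_left hvr))
  -- the cokernel of `S → R` on that piece
  set T : Submodule S R := (Ideal.span {j e} ⊔ pR).restrictScalars S with hT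
  set N : Submodule S R := Submodule.span S {j e} ⊔ pR.restrictScalars S with hN
  have heN : ∀ s : S, algebraMap S R s * j e ∈ N := fun s => by
    rw [← Algebra.smul_def]
    exact Submodule.mem_sup_left (Submodule.smul_mem _ _ (Submodule.subset_span rfl))
  have hpN : ∀ t ∈ pR, t ∈ N := fun t ht => Submodule.mem_sup_right ht
  let J : Ideal S :=
    { carrier := {a | ∀ r : R, algebraMap S R a * (j e * r) ∈ N}
      zero_mem' := fun r => by simp
      add_mem' := fun {a b} ha hb r => by rw [map_add, add_mul]; exact N.add_mem (ha r) (hb r)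
      smul_mem' := fun c a ha r => by
        rw [smul_eq_mul, map_mul, mul_assoc, ← Algebra.smul_def]
        exact N.smul_mem c (ha r) }
  have hJstab : ∀ (g : A →ₐ[k] k), ∀ a ∈ J, HopfRep.Comod.act k A S g a ∈ J := by
    intro g a ha r
    have hfixe : actHom g (j e) = j e := act_fixed (R := R) (hfix e) g
    have hN' : ∀ t ∈ N, actHom g t ∈ N := by
      intro t ht
      obtain ⟨t₁, ht₁, t₂, ht₂, rfl⟩ := Submodule.mem_sup.mp ht
      obtain ⟨c, rfl⟩ := Submodule.mem_span_singleton.mp ht₁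
      rw [map_add]
      refine N.add_mem ?_ (hpN _ ?_)
      · rw [Algebra.smul_def, map_mul, hfixe, actHom_apply, ← h.act g c]
        exact heN _
      · have hcomp : (actHom (R := R) g).comp j = j := RingHom.ext fun b => act_fixed (R := R) (hfix b) g
        have := Ideal.mem_map_of_mem (actHom (R := R) g) (show t₂ ∈ pR from ht₂)
        rwa [hpR, Ideal.map_map, hcomp] at this
    have e1 : algebraMap S R (HopfRep.Comod.act k A S g a) * (j e * r) =
        actHom g (algebraMap S R a * (j e * HopfRep.Comod.act k A R (WithConv.toConv g)⁻¹.ofConv r)) := by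
      rw [map_mul, map_mul, hfixe, actHom_apply, actHom_apply, ← h.act g a, act_inv_act]
    rw [e1]
    exact hN' _ (ha _)
  have hpJ : ∀ a ∈ p, algebraMap S₀ S a ∈ J := fun a ha r => hpN _ (pR.mul_mem_right _ (hpS a ha))
  have hnJ : ¬ J ≤ n := by
    intro hle
    haveI : IsNoetherianRing S := Algebra.FiniteType.isNoetherianRing k S
    set K : Submodule S (R ⧸ N) := T.map N.mkQ with hK
    have hKN : K ≤ n • K := by
      rintro _ ⟨t, ht, rfl⟩
      obtain ⟨t₁, ht₁, t₂, ht₂, rfl⟩ := Submodule.mem_sup.mp (show t ∈ Ideal.span {j e} ⊔ pR from ht)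
      obtain ⟨r, rfl⟩ := Ideal.mem_span_singleton'.mp ht₁
      rw [map_add, show N.mkQ t₂ = 0 from (Submodule.Quotient.mk_eq_zero N).mpr (hpN _ ht₂), add_zero]
      obtain ⟨i₁, hi₁, i₂, hi₂, hi⟩ := Submodule.mem_sup.mp
        (hmI ((hmem (r - algebraMap k R (x r))).mpr (by
          rw [map_sub, AlgHom.commutes, Algebra.algebraMap_self_apply, sub_self])))
      obtain ⟨a, rfl⟩ := Ideal.mem_span_singleton'.mp hi₂
      have hre : r * j e = i₁ * j e + (a * (j e * (1 - j e)) + algebraMap S R (algebraMap k S (x r)) * j e) := by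
        rw [← IsScalarTower.algebraMap_apply]
        linear_combination (-j e) * hi
      rw [hre, map_add, show N.mkQ (a * (j e * (1 - j e)) + algebraMap S R (algebraMap k S (x r)) * j e) = 0 from
        (Submodule.Quotient.mk_eq_zero N).mpr (N.add_mem (hpN _ (pR.mul_mem_left _ hee')) (heN _)), add_zero]
      have hi₁' : i₁ ∈ n • (⊤ : Submodule S R) := by
        rw [Ideal.smul_top_eq_map]; exact hi₁
      refine Submodule.smul_induction_on (p := fun z => N.mkQ (z * j e) ∈ n • K) hi₁' (fun c hc z _ => ?_)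
        fun z w hz hw => by rw [add_mul, map_add]; exact Submodule.add_mem _ hz hw
      rw [smul_mul_assoc, map_smul]
      exact Submodule.smul_mem_smul hc ⟨z * j e, Submodule.mem_sup_left (Ideal.mul_mem_left _ _ (Ideal.subset_span rfl)), rfl⟩
    obtain ⟨v, hv1, hv2⟩ := Submodule.exists_sub_one_mem_and_smul_eq_zero_of_fg_of_le_smul n K
      (IsNoetherian.noetherian _) hKN
    have hvJ : v ∈ J := fun r => by
      have := hv2 (N.mkQ (r * j e))
        ⟨r * j e, Submodule.mem_sup_left (Ideal.mul_mem_left _ _ (Ideal.subset_span rfl)), rfl⟩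
      rw [← map_smul, Submodule.mkQ_apply, Submodule.Quotient.mk_eq_zero, Algebra.smul_def] at this
      rwa [mul_comm (j e) r]
    have hn1 : (1 : S) ∈ n := by simpa using n.sub_mem (hle hvJ) hv1
    exact (Ideal.ne_top_iff_one n).mp (Ideal.comap_ne_top _ (Ideal.IsMaximal.ne_top ‹_›)) hn1
  have hJtop : J = ⊤ := eq_top_of_stable hα h1 hS₀ (x.comp ι) (h.isClosedOrbit_comp hx) J hJstab
    (fun s₀ hs₀ => hpJ s₀ (by
      show j (algebraMap S₀ R₀ s₀) ∈ m
      rw [hmem, ← IsScalarTower.algebraMap_apply, IsScalarTower.algebraMap_apply S₀ S R]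
      exact hs₀))
    (fun hle => hnJ fun a ha => (hmem _).mpr (hle ha))
  have h1J : (1 : S) ∈ J := (Ideal.eq_top_iff_one J).mp hJtop
  have hfe : j e * j f ∈ N := by
    have h' : algebraMap S R 1 * (j e * j f) ∈ N := h1J (j f)
    rwa [map_one, one_mul] at h'
  obtain ⟨t₁, ht₁, t₂, ht₂, htt⟩ := Submodule.mem_sup.mp hfe
  obtain ⟨s, rfl⟩ := Submodule.mem_span_singleton.mp ht₁
  -- apply the Reynolds operator
  have hkey : e * f - e * algebraMap S₀ R₀ (Classical.choose
      (show rey α s ∈ (IsScalarTower.toAlgHom k S₀ S).range from hS₀.symm ▸ rey_mem_fixedPts hα s)) ∈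
        p.map (algebraMap S₀ R₀) := by
    set s₀ := Classical.choose
      (show rey α s ∈ (IsScalarTower.toAlgHom k S₀ S).range from hS₀.symm ▸ rey_mem_fixedPts hα s)
    have hs₀ : algebraMap S₀ S s₀ = rey α s := Classical.choose_spec
      (show rey α s ∈ (IsScalarTower.toAlgHom k S₀ S).range from hS₀.symm ▸ rey_mem_fixedPts hα s)
    have hmap : algebraMap S R (rey α s) = rey α (algebraMap S R s) := map_rey h.isComodHom s
    have e2 : rey α t₂ = j (e * f - e * algebraMap S₀ R₀ s₀) := by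
      have e3 : t₂ = j (e * f) - algebraMap S R s * j e := by
        rw [map_mul, ← htt, Algebra.smul_def]; ring
      rw [e3, map_sub, rey_of_fixed h1 (hfix (e * f) : j (e * f) ∈ HopfRep.fixedPts k A R),
        rey_mul_invariant _ (hfix e), map_sub, map_mul j e (algebraMap S₀ R₀ s₀), ← hmap, ← hs₀,
        ← IsScalarTower.algebraMap_apply S₀ R₀ R, IsScalarTower.algebraMap_apply S₀ S R, mul_comm (j e)]
    refine mem_of_map_mem hα h1 hR₀i hR₀ _ ?_
    have hsub : HopfRep.IsSubcomod (k := k) (A := A) (pR.restrictScalars k) :=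
      isSubcomod_of_forall_act fun g v hv => by
        have hcomp' : (actHom (R := R) g).comp j = j := RingHom.ext fun b => act_fixed (R := R) (hfix b) g
        have := Ideal.mem_map_of_mem (actHom (R := R) g) (show v ∈ pR from hv)
        rwa [hpR, Ideal.map_map, hcomp'] at this
    exact e2 ▸ rey_mem_of_isSubcomod (α := α) hsub (show t₂ ∈ pR.restrictScalars k from ht₂)
  set s₀ := Classical.choose
      (show rey α s ∈ (IsScalarTower.toAlgHom k S₀ S).range from hS₀.symm ▸ rey_mem_fixedPts hα s)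
  have hpq : p.map (algebraMap S₀ R₀) ≤ q := Ideal.map_comap_le
  have hs₀p : s₀ ∈ p := by
    show algebraMap S₀ R₀ s₀ ∈ q
    have : e * algebraMap S₀ R₀ s₀ ∈ q := by
      simpa using q.sub_mem (q.mul_mem_left e hf) (hpq hkey)
    exact (hqmax.isPrime.mem_or_mem this).resolve_left heq
  refine ⟨e, heq, ?_⟩
  have := (p.map (algebraMap S₀ R₀)).add_mem hkey
    ((p.map (algebraMap S₀ R₀)).mul_mem_left e (Ideal.mem_map_of_mem _ hs₀p))
  simpa using this

end Groth.Agent.LunaEt
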